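import Cfsg.Agent.SB.Idem.Bas

/-!
# S5765, classical rows: matrix models of the rings of forms (helper96)
-/

set_option autoImplicit false

namespace Cfsg.Agent.SB.Idem

open Cfsg.Agent.DS.Cl Cfsg.Agent.DS.Cl.Fwd Module Matrix Ar

/-- `Xᵀ * B * X.map τ = Y` -/
def isoOK (a : Ar) (n B X : ℕ) (L : List ℕ) : Bool :=
  a.entOK n (L.getD 0 0) (fun i j => a.ent n X j i) && a.entOK n (L.getD 1 0) (fun i j => a.cj (a.ent n X i j)) &&
    a.mulOK n B (L.getD 1 0) (L.getD 2 0) && a.mulOK n (L.getD 0 0) (L.getD 2 0) (L.getD 3 0)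

/-- `Y - B` is alternating -/
def altOK (a : Ar) (n B Y : ℕ) : Bool := allTo n fun i => Nat.beq (a.ent n Y i i) (a.ent n B i i) && allTo n fun j =>
  Nat.beq (a.sp 2 (fun r => cond (Nat.beq r 0) (a.ent n Y i j) (a.ent n Y j i)) fun _ => 1)
    (a.sp 2 (fun r => cond (Nat.beq r 0) (a.ent n B i j) (a.ent n B j i)) fun _ => 1)

/-- `B` is the block matrix with the blocks `g b` -/
def Cert.gramOK (a : Ar) (C : Cert) (ps B : ℕ) (g : ℕ → ℕ → ℕ → ℕ) : Bool :=
  a.entOK C.n B fun i j => cond (Nat.beq (dig C.bl i) (dig C.bl j)) (g (dig C.bl i) (dig ps i) (dig ps j)) 0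

section arith

variable {K : Type} [Field K] {a : Ar} {ev : ℕ → K}

theorem of_isoOK (h : a.Sound ev) {n B X : ℕ} {L : List ℕ} (hn : n ≤ 1000) {τ : K → K}
    (hτ : ∀ x, ev (a.cj x) = τ (ev x)) (H : isoOK a n B X L = true) :
    (a.M ev n X)ᵀ * a.M ev n B * (a.M ev n X).map τ = a.M ev n (L.getD 3 0) := by
  simp only [isoOK, Bool.and_eq_true] at H
  obtain ⟨⟨⟨h1, h2⟩, h3⟩, h4⟩ := H
  have e1 : (a.M ev n X)ᵀ = a.M ev n (L.getD 0 0) := Matrix.ext fun i j => (Sound.ent_eq h1 i j).symm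
  have e2 : (a.M ev n X).map τ = a.M ev n (L.getD 1 0) := Matrix.ext fun i j => by
    rw [Sound.ent_eq h2, hτ]
    rfl
  rw [e1, e2, Matrix.mul_assoc, h.mul_eq hn h3, h.mul_eq hn h4]

theorem of_altOK (h : a.Sound ev) {n B Y : ℕ} (H : altOK a n B Y = true) (i j : Fin n) :
    a.M ev n Y i i = a.M ev n B i i ∧ a.M ev n Y i j + a.M ev n Y j i = a.M ev n B i j + a.M ev n B j i := by
  have h1 := allTo_iff.1 H i i.2
  rw [Bool.and_eq_true] at h1
  refine ⟨congrArg ev (Nat.eq_of_beq_eq_true h1.1), ?_⟩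
  have h2 := congrArg ev (Nat.eq_of_beq_eq_true (allTo_iff.1 h1.2 j j.2))
  rw [h.ev_sp (by norm_num) (fun r => by cases Nat.beq r 0 <;> exact h.ent_lt _ _ _ _) fun _ => h.one_lt,
    h.ev_sp (by norm_num) (fun r => by cases Nat.beq r 0 <;> exact h.ent_lt _ _ _ _) fun _ => h.one_lt] at h2
  simp only [Fin.sum_univ_two, h.ev1, mul_one] at h2
  exact h2

end arith

variable {K V : Type} [Field K] [AddCommGroup V] [Module K V] (h : HF K V) {n : ℕ} (c : Basis (Fin n) K V)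

/-- the matrix of an element -/
noncomputable def piB : h.EB →+* Matrix (Fin n) (Fin n) K where
  toFun a := LinearMap.toMatrix c c (h.ap a)
  map_one' := LinearMap.toMatrix_one c
  map_mul' a b := LinearMap.toMatrix_mul c (h.ap a) (h.ap b)
  map_zero' := map_zero (LinearMap.toMatrix c c)
  map_add' a b := map_add (LinearMap.toMatrix c c) (h.ap a) (h.ap b)

theorem piB_apply (a : h.EB) : piB h c a = LinearMap.toMatrix c c (h.ap a) := rfl

theorem piB_bij : Function.Bijective (piB h c) := (LinearMap.toMatrix c c).bijective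

theorem piB_smul (x : K) : piB h c (h.eb (x • 1)) = Matrix.scalar (Fin n) x := by
  rw [piB_apply, h.ap_eb, map_smul, LinearMap.toMatrix_one, Matrix.scalar_apply, Matrix.smul_one_eq_diagonal]

theorem ap_basis (a : h.EB) (j : Fin n) : h.ap a (c j) = ∑ i, piB h c a i j • c i := by
  conv_lhs => rw [← c.sum_repr (h.ap a (c j))]
  simp only [piB_apply, LinearMap.toMatrix_apply]

theorem b_sum_left (x : Fin n → K) (y : V) : h.b (∑ i, x i • c i) y = ∑ i, x i * h.b (c i) y := by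
  change h.lin y _ = _
  rw [map_sum]
  exact Finset.sum_congr rfl fun i _ => h.smul_left _ _ _

theorem b_sum_right (x : Fin n → K) (y : V) : h.b y (∑ i, x i • c i) = ∑ i, h.τ (x i) * h.b y (c i) := by
  rw [h.swap, b_sum_left, map_sum, Finset.mul_sum]
  refine Finset.sum_congr rfl fun i _ => ?_
  rw [map_mul, h.swap (c i) y]
  ring

/-- the Gram matrix -/
noncomputable def gram : Matrix (Fin n) (Fin n) K := Matrix.of fun i j => h.b (c i) (c j)

theorem b_ap_ap (a : h.EB) (j k : Fin n) :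
    h.b (h.ap a (c j)) (h.ap a (c k)) = ((piB h c a)ᵀ * gram h c * (piB h c a).map h.τ) j k := by
  rw [ap_basis h c a j, ap_basis h c a k, b_sum_right, Matrix.mul_apply]
  refine Finset.sum_congr rfl fun l _ => ?_
  rw [b_sum_left, Matrix.mul_apply, mul_comm]
  rfl

include c in
theorem cen_scalar {x : h.EB} (hx : x ∈ Subring.center h.EB) : ∃ y : K, x = h.eb (y • 1) := by
  obtain ⟨y, hy⟩ : piB h c x ∈ Set.range (Matrix.scalar (Fin n)) := by
    refine Matrix.mem_range_scalar_iff_commute_single'.2 fun i j => ?_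
    obtain ⟨z, hz⟩ := (piB_bij h c).2 (Matrix.single i j 1)
    rw [← hz]
    exact Commute.map (Subring.mem_center_iff.1 hx z) (piB h c)
  exact ⟨y, (piB_bij h c).1 (by rw [piB_smul, hy])⟩

theorem eb_natCast (k : ℕ) : h.eb ((k : K) • 1) = (k : h.EB) := by
  rw [Nat.cast_smul_eq_nsmul]
  exact nsmul_one (A := h.EB) k

include c in
theorem lin_of_prime (hK : ∀ y : K, ∃ k : ℕ, y = k) (s : RingAut h.EB) : s ∈ Lin h.EB := by
  intro x hx
  obtain ⟨y, rfl⟩ := cen_scalar h c hx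
  obtain ⟨k, rfl⟩ := hK y
  rw [eb_natCast, map_natCast]

theorem li_of_mono {d : ℕ} {v : ℕ → V} (σ : ℕ → ℕ) (h1 : ∀ r < d, h.b (v r) (v (σ r)) ≠ 0)
    (h2 : ∀ r < d, ∀ s < d, s ≠ r → h.b (v s) (v (σ r)) = 0) : LinearIndependent K fun r : Fin d => v r := by
  rw [Fintype.linearIndependent_iff]
  intro g hg r
  have h3 := congrArg (h.lin (v (σ r))) hg
  rw [map_sum, map_zero, Finset.sum_eq_single r] at h3
  · exact (mul_eq_zero.1 ((h.smul_left _ _ _).symm.trans h3)).resolve_right (h1 r r.2)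
  · intro s _ hs
    exact (h.smul_left _ _ _).trans (by rw [h2 r r.2 s s.2 fun e => hs (Fin.ext e), mul_zero])
  · simp

variable [Finite K] [Finite V]

theorem mul_star_of_b {a : h.EB} (H : ∀ x y, h.b (h.ap a x) (h.ap a y) = h.b x y) : a * star a = 1 :=
  mul_eq_one_comm.1 (h.ap_ext fun y => h.ext_right fun x => by rw [h.ap_mul, h.b_star, H, h.ap_one])

theorem lift_max {F : FR h.EB} (hF : F.L = Lmax h.EB) {X : Matrix (Fin n) (Fin n) K}
    (hX : Xᵀ * gram h c * X.map h.τ = gram h c) : ∃ u ∈ F.Iso, piB h c u = X := by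
  obtain ⟨a, rfl⟩ := (piB_bij h c).2 X
  have h1 : ∀ j y, h.b (h.ap a y) (h.ap a (c j)) = h.b y (c j) := fun j y =>
    LinearMap.congr_fun (c.ext (f₁ := (h.lin (h.ap a (c j))).comp (h.ap a)) (f₂ := h.lin (c j)) fun i =>
      (b_ap_ap h c a i j).trans (by rw [hX]; rfl)) y
  have h2 : ∀ x y, h.b (h.ap a x) (h.ap a y) = h.b x y := fun x y =>
    LinearMap.congr_fun (c.ext (f₁ := (h.lin (h.ap a y)).comp (h.ap a)) (f₂ := h.lin y) fun i => by
      change h.b (h.ap a (c i)) (h.ap a y) = h.b (c i) y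
      rw [h.swap, h1, ← h.swap]) x
  exact ⟨mkU a (mul_star_of_b h h2), mem_Iso_max hF (mul_star_of_b h h2), rfl⟩

theorem mem_Lmin_of (hτ : ∀ y, h.τ y = y) (hb : ∀ u v, h.b u v = h.b v u) {x : h.EB}
    (H : ∀ v, h.b v (h.ap x v) = 0) : x ∈ Lmin h.EB := by
  have : Module.Finite K V := Module.Finite.of_finite
  let β₀ : V →ₗ[K] V →ₗ[K] K := LinearMap.mk₂ K h.b h.add_left h.smul_left h.add_right fun y u v => by
    rw [h.smul_right, hτ, smul_eq_mul]
  obtain ⟨β, hβ⟩ := exists_half (β₀.compl₂ (h.ap x)) H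
  obtain ⟨a, ha⟩ := h.exists_op hτ β
  refine ⟨a, h.ap_ext fun v => h.ext_right fun u => ?_⟩
  rw [h.ap_sub, h.sub_right, h.b_star, ha, hb (h.ap a u), ha, hβ]
  rfl

theorem lift_O {F : FR h.EB} {Q : QuadraticForm K V} (hO : Cl.IsO h F Q) {κ : K} {U X Y : Matrix (Fin n) (Fin n) K}
    (h1 : ∀ i, Q (c i) = κ * U i i) (h2 : ∀ i j, i ≠ j → h.b (c i) (c j) = κ * (U i j + U j i))
    (hX : Xᵀ * U * X = Y) (h3 : ∀ i j, Y i i = U i i ∧ Y i j + Y j i = U i j + U j i) :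
    ∃ u ∈ F.Iso, piB h c u = X := by
  obtain ⟨hτ, hb, hL, hl⟩ := hO
  obtain ⟨a, rfl⟩ := (piB_bij h c).2 X
  let β : LinearMap.BilinForm K V := Matrix.toBilin c (κ • U)
  have hβ : ∀ i j, β (c i) (c j) = κ * U i j := fun i j => by
    rw [← LinearMap.BilinForm.toMatrix_apply c, LinearMap.BilinForm.toMatrix_toBilin]
    rfl
  have hβ' : ∀ i j, β (h.ap a (c i)) (h.ap a (c j)) = κ * Y i j := fun i j => by
    have h4 := LinearMap.BilinForm.toMatrix_comp c c β (h.ap a) (h.ap a)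
    rw [LinearMap.BilinForm.toMatrix_toBilin, ← piB_apply, Matrix.mul_smul, Matrix.smul_mul, hX] at h4
    have h5 := congrFun (congrFun h4 i) j
    rwa [LinearMap.BilinForm.toMatrix_apply] at h5
  have hQ : Q = LinearMap.BilinMap.toQuadraticMap β := quad_ext c
    (fun i => by rw [LinearMap.BilinMap.toQuadraticMap_apply, hβ, h1]) fun i j hij => by
      rw [LinearMap.BilinMap.polar_toQuadraticMap, hβ, hβ, ← hb, h2 i j hij, mul_add]
  have hQ' : Q.comp (h.ap a) = Q := quad_ext c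
    (fun i => by rw [QuadraticMap.comp_apply, h1, hQ, LinearMap.BilinMap.toQuadraticMap_apply, hβ', (h3 i i).1])
    fun i j hij => by
      have h4 : QuadraticMap.polar (Q.comp (h.ap a)) (c i) (c j) =
          QuadraticMap.polar Q (h.ap a (c i)) (h.ap a (c j)) := by
        simp only [QuadraticMap.polar, QuadraticMap.comp_apply, map_add]
      rw [h4, ← hb (c i), h2 i j hij, hQ, LinearMap.BilinMap.polar_toQuadraticMap, hβ', hβ', ← mul_add, (h3 i j).2]
  have h4 : ∀ v, Q (h.ap a v) = Q v := fun v => by rw [← QuadraticMap.comp_apply, hQ']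
  have h5 := mul_star_of_b h (a := a) fun x y => by
    rw [hb, hb]
    simp only [QuadraticMap.polar, ← map_add, h4]
  refine ⟨mkU a h5, ⟨h5, ?_⟩, rfl⟩
  rw [hL]
  refine mem_Lmin_of h hτ (fun u v => by rw [hb, hb, QuadraticMap.polar_comm]) fun v => ?_
  rw [mkU_val, h.ap_sub, h.sub_right, h.ap_mul, h.ap_mul, ← h.star_b, hl, hl, ← h4, ← h.ap_mul, h5, h.ap_one, sub_self]

/-- different blocks are orthogonal -/
theorem b_cross {e e' : h.EB} (hs : star e = e) (ho : e * e' = 0) {x y : V} (hx : h.ap e x = x) (hy : h.ap e' y = y) :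
    h.b x y = 0 := by
  rw [← hx, ← hy, ← h.b_star, hs, ← h.ap_mul, ho]
  exact h.zero_right x

/-- the engine for forms -/
theorem four_form {F : FR h.EB} (hA : SS h.EB) {a : Ar} {ev : ℕ → K} (ha : a.Sound ev) (C : Cert) (sw : Bool)
    (H₀ : C.ok₀ a = true) (H₁ : C.ok₁ a = true) (H₂ : C.ok₂ a = true) (H₃ : C.ok₃ a sw = true) (H₄ : C.ok₄ a = true)
    {ps B : ℕ} {d : ℕ → ℕ} {g : ℕ → ℕ → ℕ → ℕ} (H₅ : C.shOK ps d = true) (H₆ : C.gramOK a ps B g = true)
    {D : Finset h.EB} (hD : Fr D) {e : ℕ → h.EB} (he : En D C.t e) {v : ℕ → ℕ → V}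
    (hv : ∀ b < C.t, BB (h.ap (e b)) (d b) (v b))
    (H : ∀ c : Basis (Fin C.n) K V, (∀ i j,
      (h.b (c i) (c j) = 0 ∧ a.M ev C.n B i j = 0 ∧ a.M ev C.n B j i = 0 ∧ i ≠ j) ∨
      ∃ b < C.t, ∃ r < d b, ∃ s < d b, c i = v b r ∧ c j = v b s ∧ (i = j ↔ r = s) ∧
        a.M ev C.n B i j = ev (g b r s) ∧ a.M ev C.n B j i = ev (g b s r)) →
      (∀ s ∈ SAut h.EB, s ∈ Lin h.EB ∨ (sw = true ∧ ∀ x, (piB h c (s x)).trace = (piB h c (star x)).trace)) ∧
      ∀ k < 3, ∃ u ∈ F.Iso, piB h c u = a.M ev C.n (C.x k))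
    {S : Subgroup (RingAut h.EB)} (hS : S ≤ SAut h.EB) (hinv : Inv S D) : Four F.S S := by
  have : Module.Finite K V := Module.Finite.of_finite
  obtain ⟨c, hc, hc'⟩ := exists_basis H₅ (fun b => h.ap (e b)) (fun b hb b' hb' hne => he.orth hD hb hb' hne)
    (he.sum hD) v hv
  obtain ⟨h1, h2, -⟩ := Cert.of_shOK H₅
  obtain ⟨h3, h4⟩ := H c (fun i j => by
    by_cases hij : dig C.bl i = dig C.bl j
    · refine Or.inr ⟨_, (h1 i i.2).1, _, (h1 i i.2).2, dig ps j, hij ▸ (h1 j j.2).2, hc i, hij ▸ hc j,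
        ⟨fun e => by rw [e], fun e => Fin.ext (h2 i i.2 j j.2 hij e)⟩, ?_, ?_⟩
      · rw [Sound.ent_eq H₆, hij, Nat.beq_refl, cond_true]
      · rw [Sound.ent_eq H₆, hij, Nat.beq_refl, cond_true]
    · refine Or.inl ⟨b_cross h (hD.symm _ (he.mem _ (h1 i i.2).1)) (he.orth hD (h1 i i.2).1 (h1 j j.2).1 hij) ?_ ?_,
        ?_, ?_, fun e => hij (by rw [e])⟩
      · rw [hc]
        exact (hv _ (h1 i i.2).1).mem _ (h1 i i.2).2
      · rw [hc]
        exact (hv _ (h1 j j.2).1).mem _ (h1 j j.2).2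
      · rw [Sound.ent_eq H₆, Bool.eq_false_iff.2 fun e => hij (Nat.eq_of_beq_eq_true e), cond_false, ha.ev0]
      · rw [Sound.ent_eq H₆, Bool.eq_false_iff.2 fun e => hij (Nat.eq_of_beq_eq_true e).symm, cond_false, ha.ev0])
  exact four_of_cert F hA ha C sw H₀ H₁ H₂ H₃ H₄ (piB h c) (fun x hx _ => (piB_bij h c).1 (hx.trans (map_zero _).symm))
    h3 h4 e hc' (fun b hb => hD.symm _ (he.mem b hb)) he.inj hS (he.inv hinv)

end Cfsg.Agent.SB.Idem
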