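import Cfsg.Agent.SB.Idem.CL
import Cfsg.Agent.SB.Cl.Basic

/-!
# S5765, classical row `RowLFr` (helper96)
-/

set_option autoImplicit false

namespace Cfsg.Agent.SB.Idem

open Cfsg.Agent.DS.Cl Cfsg.Agent.DS.Cl.Fwd Cfsg.Agent.SB.Cl Module Matrix

variable {K : Type} [Field K] {m n : ℕ}

theorem single_eq_zero_iff {i j : Fin n} {x : K} : single i j x = 0 ↔ x = 0 :=
  ⟨fun h => by simpa using congrFun (congrFun h i) j, fun h => by rw [h, single_zero]⟩

theorem ef_eq_zero {X Y : Matrix (Fin n) (Fin n) K} (h : Y * X = 1) (i j : Fin n) :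
    single i i (1 : K) * (X * single j j (1 : K) * Y) = 0 ↔ X i j = 0 := by
  rw [← Matrix.mul_assoc, ← Matrix.mul_assoc, single_mul_mul_single, one_mul, mul_one, ← single_eq_zero_iff (i := i) (j := j)]
  refine ⟨fun h1 => ?_, fun h1 => by rw [h1, Matrix.zero_mul]⟩
  rw [← Matrix.mul_one (single i j (X i j)), ← h, ← Matrix.mul_assoc, h1, Matrix.zero_mul]

theorem fe_eq_zero {X Y : Matrix (Fin n) (Fin n) K} (h : Y * X = 1) (i j : Fin n) :
    X * single j j (1 : K) * Y * single i i (1 : K) = 0 ↔ Y j i = 0 := by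
  rw [Matrix.mul_assoc, Matrix.mul_assoc, ← Matrix.mul_assoc (single j j 1), single_mul_mul_single, one_mul, mul_one,
    ← single_eq_zero_iff (i := j) (j := i)]
  refine ⟨fun h1 => ?_, fun h1 => by rw [h1, Matrix.mul_zero]⟩
  rw [← Matrix.one_mul (single j i (Y j i)), ← h, Matrix.mul_assoc, h1, Matrix.mul_zero]

/-- a ring endomorphism fixing enough matrix units is the identity -/
theorem eq_id_of_units [Finite K] (θ : Matrix (Fin n) (Fin n) K →+* Matrix (Fin n) (Fin n) K) {o l : Fin n} {g : Kˣ}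
    (hg : ∀ x, x ∈ Subgroup.zpowers g) (h1 : ∀ i, θ (single i i 1) = single i i 1)
    (h2 : ∀ i, θ (single i l 1) = single i l 1) (h3 : θ (single o l (g : K)) = single o l (g : K))
    (Y : Matrix (Fin n) (Fin n) K) : θ Y = Y := by
  have h4 : ∀ i, θ (single l i 1) = single l i 1 := fun i => by
    have a1 : θ (single l i 1) = single l l (1 : K) * θ (single l i 1) * single i i (1 : K) := by
      conv_rhs => rw [← h1 l, ← h1 i, ← map_mul, ← map_mul]
      simp
    have a2 : single i l (1 : K) * θ (single l i 1) = single i i 1 := by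
      conv_lhs => rw [← h2 i, ← map_mul]
      simpa using h1 i
    rw [single_mul_mul_single, one_mul, mul_one] at a1
    have a3 := congrFun (congrFun a2 i) i
    rw [single_mul_apply_same, one_mul, single_apply_same] at a3
    rw [a1, a3]
  have h5 : ∀ i j, θ (single i j 1) = single i j 1 := fun i j => by
    have a1 : single i j (1 : K) = single i l (1 : K) * single l j (1 : K) := by simp
    rw [a1, map_mul, h2, h4]
  have h6 : ∀ (k : ℕ) i j, θ (single i j ((g : K) ^ k)) = single i j ((g : K) ^ k) := fun k => by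
    induction k with
    | zero => simpa using h5
    | succ k ih =>
      intro i j
      have a1 : single i j ((g : K) ^ (k + 1)) = single i o ((g : K) ^ k) * single o l (g : K) * single l j (1 : K) := by
        simp [pow_succ]
      rw [a1, map_mul, map_mul, ih, h3, h4]
  refine Matrix.induction_on' (P := fun Y => θ Y = Y) Y (map_zero θ) (fun p q hp hq => by rw [map_add, hp, hq])
    fun i j x => ?_
  by_cases hx : x = 0
  · rw [hx, single_zero, map_zero]
  · obtain ⟨k, hk⟩ := (mem_powers_iff_mem_zpowers.2 (hg (Units.mk0 x hx)))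
    have a1 : x = (g : K) ^ k := (congrArg Units.val hk).symm.trans (Units.val_pow_eq_pow_val g k)
    rw [a1, h6]

theorem piL_eq_zero (c : Basis (Fin n) K (Fin m → K)) (x : LR (Fin m) K) : piL c x = 0 ↔ LR.mk 1 0 * x = 0 := by
  obtain ⟨a, b, rfl⟩ := LR.exists_mk x
  rw [piL_apply, map_eq_zero_iff _ (LinearMap.toMatrix c c).injective,
    map_eq_zero_iff _ (Matrix.toLin' (R := K)).injective, LR.mk_mul, one_mul, zero_mul]
  exact ⟨fun h => Prod.ext h rfl, fun h => congrArg Prod.fst h⟩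

theorem lift_SL (hm : 3 ≤ m) (F : FR (LR (Fin m) K)) (c : Basis (Fin n) K (Fin m → K))
    {X Y : Matrix (Fin n) (Fin n) K} (h : X * Y = 1) (hd : X.det = 1) :
    ∃ s ∈ F.S, ∀ x, piL c (s x) = X * piL c x * Y := by
  let ψ := (Matrix.toLinAlgEquiv' (R := K) (n := Fin m)).trans (LinearMap.toMatrixAlgEquiv c)
  have h3 := congrArg ψ.symm h
  rw [map_mul, map_one] at h3
  let g : GL (Fin m) K := ⟨_, _, h3, mul_eq_one_comm.1 h3⟩
  have hr : (LR.gl (ι := Fin m) (F := K)).range = F.Iso := by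
    ext u
    rw [LR.mem_gl]
    exact ⟨fun hu => mem_Iso_max (L_eq_max F) hu, fun hu => hu.1⟩
  have h4 : g ∈ commutator (GL (Fin m) K) := by
    rw [Cfsg.Agent.S0264.result m (by omega), MonoidHom.mem_ker]
    refine Units.ext ?_
    have h5 : LinearMap.toMatrix c c (Matrix.toLin' (ψ.symm X)) = X := ψ.apply_symm_apply X
    change (ψ.symm X).det = 1
    rw [← LinearMap.det_toLin', ← LinearMap.det_toMatrix c, h5, hd]
  refine ⟨cj _ (LR.gl g), ⟨_, by rw [← hr, comm_range]; exact ⟨g, h4, rfl⟩, rfl⟩, fun x => ?_⟩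
  rw [cj_apply, map_mul, map_mul, ← map_inv]
  congr 1
  · congr 1
    exact ψ.apply_symm_apply X
  · exact ψ.apply_symm_apply Y

theorem four_tor [Finite K] (hm : 3 ≤ m) (hn : 3 ≤ n) {F : FR (LR (Fin m) K)} (hA : SS (LR (Fin m) K))
    (c : Basis (Fin n) K (Fin m → K)) (e : Fin n → LR (Fin m) K) (he : ∀ i, piL c (e i) = single i i 1)
    (hs : ∀ i, star (e i) = e i) {X Y : Matrix (Fin n) (Fin n) K} (hXY : X * Y = 1)
    (hX : ∀ i j, X i j = if i ≤ j then 1 else 0) (hY : ∀ i j, Y i j ≠ 0 → j.1 = i ∨ j.1 = i + 1) (hY' : ∀ i, Y i i = 1)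
    {S : Subgroup (RingAut (LR (Fin m) K))} (hS : S ≤ SAut _) (hD : ∀ s ∈ S, ∀ i, ∃ j, s (e i) = e j) :
    Four F.S S := by
  have hYX := mul_eq_one_comm.1 hXY
  obtain ⟨g, hg⟩ := IsCyclic.exists_generator (α := Kˣ)
  let o : Fin n := ⟨0, by omega⟩
  let l : Fin n := ⟨n - 1, by omega⟩
  have hol : o ≠ l := fun h => by have := congrArg Fin.val h; simp only [o, l] at this; omega
  have hl : ∀ i, i ≤ l := fun i => Nat.le_sub_one_of_lt i.2
  obtain ⟨x, hx, hx'⟩ := lift_SL hm F c hXY (by
    rw [Matrix.det_of_isUpperTriangular fun i j (hij : j < i) => by rw [hX, if_neg (not_le.2 hij)]]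
    simp [hX])
  have hNN : single o l (g : K) * single o l (g : K) = 0 := single_mul_single_of_ne _ _ _ _ hol.symm _
  obtain ⟨y, hy, hy'⟩ := lift_SL hm F c (X := 1 + single o l (g : K)) (Y := 1 - single o l (g : K))
    (by rw [add_mul, mul_sub, mul_sub, hNN]; simp) (Matrix.det_transvection_of_ne o l hol _)
  refine four_of_two hx hy fun s s0 s1 s2 => ?_
  choose σ hσ using hD s s0
  choose τ hτ using hD _ s1
  obtain ⟨j₀, hj₀⟩ := hD _ s2 l
  have hτ' : ∀ j, s (x (e j)) = x (e (τ j)) := fun j => by rw [← hτ, ra_mul, ra_mul, ra_apply_inv]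
  have hj₀' : s (y (e l)) = y (e j₀) := by rw [← hj₀, ra_mul, ra_mul, ra_apply_inv]
  have a1 : ∀ i j, piL c (e i * x (e j)) = 0 ↔ ¬ i ≤ j := fun i j => by
    rw [map_mul, hx', he, he, ef_eq_zero hYX, hX]
    simp
  rcases hA.map_eps eps_L (hS s0) with hε | hε
  · have a2 : ∀ z, piL c (s z) = 0 ↔ piL c z = 0 := fun z => by
      rw [piL_eq_zero, piL_eq_zero, ← hε, ← map_mul, hε, map_eq_zero_iff _ s.injective]
    have a3 : ∀ i j, σ i ≤ τ j ↔ i ≤ j := fun i j => by
      rw [← not_iff_not, ← a1, ← a1, ← hσ, ← hτ', ← map_mul, a2]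
    have a4 : ∀ i, σ i = i := fun i => congrFun (StrictMono.eq_id (f := σ) fun i i' h =>
      ((a3 i i).2 le_rfl).trans_lt (not_le.1 fun h1 => h.not_ge ((a3 i' i).1 h1))) i
    have a5 : ∀ i, τ i = i := fun i => congrFun (StrictMono.eq_id (f := τ) fun i i' h =>
      (not_le.1 fun h1 => h.not_ge ((a3 i' i).1 h1)).trans_le ((a3 i' i').2 le_rfl)) i
    have hsurj : Function.Surjective (piL c) :=
      ((Matrix.toLinAlgEquiv' (R := K) (n := Fin m)).trans (LinearMap.toMatrixAlgEquiv c)).surjective.comp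
        Prod.fst_surjective
    let θ := (piL c).liftOfRightInverse _ (Function.rightInverse_surjInv hsurj)
      ⟨(piL c).comp (s : LR (Fin m) K →+* LR (Fin m) K), fun z hz => (a2 z).2 hz⟩
    have hθ : ∀ z, θ (piL c z) = piL c (s z) := fun z => RingHom.liftOfRightInverse_comp_apply _ _ _ _ z
    have b1 : ∀ i, θ (single i i 1) = single i i 1 := fun i => by rw [← he, hθ, hσ, a4]
    have b2 : ∀ i, θ (single i l 1) = single i l 1 := fun i => by
      have b2 : piL c (e i * x (e l) * e l) = single i l 1 := by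
        rw [map_mul, map_mul, hx', he, he, ← Matrix.mul_assoc, ← Matrix.mul_assoc, single_mul_mul_single,
          single_mul_mul_single, hX, if_pos (hl i), hY']
        simp
      rw [← b2, hθ, map_mul s, map_mul s, hσ, hσ, hτ', a4, a4, a5]
    have b3 : piL c (y (e l)) = single l l 1 + single o l (g : K) := by
      rw [hy', he, add_mul, one_mul, single_mul_single_same, mul_one, mul_sub, mul_one, add_mul, hNN,
        single_mul_single_of_ne _ _ _ _ hol.symm]
      simp
    have b4 : j₀ = l := by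
      by_contra hne
      have b4 := hθ (e l * y (e l) * e l)
      rw [map_mul s, map_mul s, hσ, a4, hj₀', map_mul (piL c), map_mul (piL c), map_mul (piL c), map_mul (piL c), b3,
        hy', he, he, single_mul_mul_single, single_mul_mul_single] at b4
      have b5 : (single l l (1 : K) + single o l (g : K)) l l = 1 := by simp [hol]
      have b6 : ((1 + single o l (g : K)) * single j₀ j₀ (1 : K) * (1 - single o l (g : K))) l l = 0 := by
        rw [Matrix.mul_apply]
        refine Finset.sum_eq_zero fun k _ => ?_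
        by_cases hk : k = j₀
        · rw [hk, mul_single_apply_same]
          simp [hol, Ne.symm hne]
        · rw [mul_single_apply_of_ne _ _ _ _ _ hk, zero_mul]
      rw [b5, b6, one_mul, mul_one, b1, mul_zero, zero_mul, single_zero] at b4
      exact one_ne_zero (single_eq_zero_iff.1 b4)
    have b5 : θ (single o l (g : K)) = single o l (g : K) := by
      have b5 := congrArg (piL c) hj₀'
      rwa [← hθ, b4, b3, map_add, b1, add_right_inj] at b5
    have b6 : ∀ z, piL c (s z) = piL c z := fun z => by rw [← hθ, eq_id_of_units θ hg b1 b2 b5]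
    ext z
    have b7 := (piL_eq_zero c (s z - z)).1 (by rw [map_sub, b6, sub_self])
    have b8 := (piL_eq_zero c (star (s z - z))).1 (by rw [star_sub, ← hS s0, map_sub, b6, sub_self])
    rw [← eps_L.comm, ← star_star (LR.mk 1 0), ← star_mul, star_eq_zero] at b8
    rw [ra_one, ← sub_eq_zero, eps_L.split (s z - z), b7, b8, add_zero]
  · exfalso
    have a2 : ∀ z, piL c (star (s z)) = 0 ↔ piL c z = 0 := fun z => by
      rw [piL_eq_zero, piL_eq_zero, ← eps_L.comm, ← star_star (LR.mk 1 0), ← star_mul, star_eq_zero, star_star, ← hε,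
        ← map_mul, map_eq_zero_iff _ s.injective]
    have a3 : ∀ i j, Y (τ j) (σ i) = 0 ↔ ¬ i ≤ j := fun i j => by
      rw [← a1, ← a2, map_mul, hσ, hτ', star_mul, ← F.Aut_le_SAut (F.S_le_Aut hx), hs, hs, map_mul, hx', he, he,
        fe_eq_zero hYX]
    have a4 : ∀ j j', j < j' → (τ j).1 ≠ τ j' := fun j j' h e' => by
      have a4 := a3 j' j
      rw [Fin.ext e', a3] at a4
      exact a4.2 h.not_ge le_rfl
    have a5 := fun j => hY _ _ fun h => (a3 o j).1 h (Nat.zero_le _)
    have b0 := a5 ⟨0, by omega⟩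
    have b1 := a5 ⟨1, by omega⟩
    have b2 := a5 ⟨2, by omega⟩
    have c0 := a4 ⟨0, by omega⟩ ⟨1, by omega⟩ (by simp)
    have c1 := a4 ⟨0, by omega⟩ ⟨2, by omega⟩ (by simp)
    have c2 := a4 ⟨1, by omega⟩ ⟨2, by omega⟩ (by simp)
    omega

/-- the shape of a frame of points -/
def shT (n : ℕ) : Cert := ⟨n, n, 228, 0, [], [], [], [], [], 0, 0, 0, 0, [], [], [], 0, 0, 0, 0, []⟩

theorem four_tor' [Finite K] (hm : 3 ≤ m) {F : FR (LR (Fin m) K)} (hA : SS (LR (Fin m) K))
    {D : Finset (LR (Fin m) K)} (hD : Fr D) (h1 : Many rkL D 1) {S : Subgroup (RingAut (LR (Fin m) K))}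
    (hS : S ≤ SAut _) (hinv : Inv S D) : Four F.S S := by
  obtain ⟨n, hn⟩ : ∃ n, D.card = n := ⟨_, rfl⟩
  have hn' : n = 3 ∨ n = 4 := hn ▸ h1.1
  obtain ⟨e, he⟩ := en_of_card hn
  let φ : LR (Fin m) K →+* End K (Fin m → K) :=
    ((Matrix.toLinAlgEquiv' (R := K) (n := Fin m)).toRingEquiv : Matrix (Fin m) (Fin m) K →+* _).comp fstL
  choose! v hv using fun b (hb : b < n) => exists_BB (E := φ (e b)) (d := 1)
    (by rw [← map_mul, hD.idem _ (he.mem b hb)]) (h1.2 _ (he.mem b hb))
  obtain ⟨c, -, hc⟩ := exists_basis (C := shT n) (ps := 0) (d := fun _ => 1)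
    (by rcases hn' with rfl | rfl <;> decide) (fun b => φ (e b))
    (fun b hb b' hb' hne => by rw [← map_mul, he.orth hD hb hb' hne, map_zero])
    (by rw [← map_sum]; exact (congrArg φ (he.sum hD)).trans (map_one φ)) v hv
  refine four_tor (n := n) hm (by omega) hA c (fun i => e i) (fun i => (hc i i.2).trans ?_)
    (fun i => hD.symm _ (he.mem i i.2)) (X := Matrix.of fun i j => if i ≤ j then 1 else 0)
    (Y := Matrix.of fun i j => if j.1 = i then 1 else if j.1 = i + 1 then -1 else 0) ?_ (fun _ _ => rfl)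
    (fun i j h => ?_) (fun i => by simp) hS fun s hs i => ?_
  · have h2 : ∀ i < 4, dig 228 i = i := by decide
    rw [← diagonal_single]
    refine congrArg Matrix.diagonal (funext fun j => ?_)
    have h3 : dig (shT n).bl j = j := h2 j (by have : j.1 < n := j.2; omega)
    simp only [Cert.inB, h3, Nat.beq_eq]
    exact (if_congr Fin.ext_iff.symm rfl rfl).trans (Pi.single_apply i (1 : K) j).symm
  · rcases hn' with rfl | rfl <;> ext i j
    · rw [Matrix.mul_apply, Fin.sum_univ_three]
      fin_cases i <;> fin_cases j <;> simp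
    · rw [Matrix.mul_apply, Fin.sum_univ_four]
      fin_cases i <;> fin_cases j <;> simp
  · by_contra h2
    rw [not_or] at h2
    simp [h2.1, h2.2] at h
  · obtain ⟨j, hj, h2⟩ := he.inv hinv s hs i i.2
    exact ⟨⟨j, hj⟩, h2⟩

theorem rowLFr : RowLFr := by
  intro K _ _ m F S D hm _ hc hD hinv H
  refine hc.good_of_four ?_
  rcases H with H | ⟨⟨ht, H⟩, hK⟩ | ⟨hK, H | H⟩
  · exact four_tor' hm hc.ss hD H hc.le_SAut hinv
  · rcases card_le_three hK with hK | hK <;> rcases ht with ht | ht <;> obtain ⟨e, he⟩ := en_of_card ht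
    · exact four_l Nat.prime_two (by norm_num) hK hc.ss cL2_222 cL2_222_0 cL2_222_1 cL2_222_2 cL2_222_3 cL2_222_4
        cL2_222_5 hD he (fun b hb => H _ (he.mem b hb)) hc.le_SAut hinv
    · exact four_l Nat.prime_two (by norm_num) hK hc.ss cL2_2222 cL2_2222_0 cL2_2222_1 cL2_2222_2 cL2_2222_3 cL2_2222_4
        cL2_2222_5 hD he (fun b hb => H _ (he.mem b hb)) hc.le_SAut hinv
    · exact four_l Nat.prime_three (by norm_num) hK hc.ss cL3_222 cL3_222_0 cL3_222_1 cL3_222_2 cL3_222_3 cL3_222_4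
        cL3_222_5 hD he (fun b hb => H _ (he.mem b hb)) hc.le_SAut hinv
    · exact four_l Nat.prime_three (by norm_num) hK hc.ss cL3_2222 cL3_2222_0 cL3_2222_1 cL3_2222_2 cL3_2222_3
        cL3_2222_4 cL3_2222_5 hD he (fun b hb => H _ (he.mem b hb)) hc.le_SAut hinv
  · obtain ⟨e, he, hr⟩ := en_of_two H
    exact four_l Nat.prime_three (by norm_num) hK hc.ss cL3_12 cL3_12_0 cL3_12_1 cL3_12_2 cL3_12_3 cL3_12_4
      cL3_12_5 hD he hr hc.le_SAut hinv
  · obtain ⟨e, he, hr⟩ := en_of_two H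
    exact four_l Nat.prime_three (by norm_num) hK hc.ss cL3_22 cL3_22_0 cL3_22_1 cL3_22_2 cL3_22_3 cL3_22_4
      cL3_22_5 hD he (fun b hb => (hr b hb).trans (Bool.cond_self _ _)) hc.le_SAut hinv

end Cfsg.Agent.SB.Idem
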