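import Cfsg.Agent.SB.Idem.Fam

/-!
# S5765, classical rows: standard bases of orthogonal blocks (helper96)
-/

set_option autoImplicit false

namespace Cfsg.Agent.SB.Idem

open Cfsg.Agent.DS.Cl Cfsg.Agent.DS.Cl.Fwd Module

variable {K V : Type} [Field K] [Finite K] [AddCommGroup V] [Module K V] [Finite V] {h : HF K V} {F : FR h.EB}
  {Q : QuadraticForm K V}

theorem ob_mk (hO : Cl.IsO h F Q) {κ : K} (hκ : κ ≠ 0) {E : End K V} {d : ℕ} (hd : d = 4 ∨ (d = 3 ∧ (2 : K) ≠ 0))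
    {v : ℕ → V} (h1 : ∀ r < d, E (v r) = v r) (h2 : finrank K (LinearMap.range E) = d)
    (h3 : ∀ r < d, Q (v r) = κ * gO d r r) (h4 : ∀ r < d, ∀ s < r, h.b (v r) (v s) = κ * (gO d r s + gO d s r)) :
    OB h Q κ E d v := by
  have h5 : ∀ r < d, ∀ s < d, h.b (v r) (v s) = κ * (gO d r s + gO d s r) := fun r hr s hs => by
    rcases lt_trichotomy s r with h5 | rfl | h5
    · exact h4 r hr s h5
    · rw [hO.2.1, QuadraticMap.polar_self, h3 s hs, two_smul, mul_add]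
    · rw [hO.2.1, QuadraticMap.polar_comm, ← hO.2.1, h4 s hs r h5, add_comm]
  refine ⟨⟨h1, ?_, h2⟩, h3, fun r hr s hs _ => h5 r hr s hs⟩
  rcases hd with rfl | ⟨rfl, h6⟩
  · refine li_of_mono h (fun r => (r + 2) % 4) (fun r hr => ?_) fun r hr s hs hne => ?_
    · rw [h5 r hr _ (Nat.mod_lt _ (by norm_num))]
      interval_cases r <;> simpa [gO, Nat.beq] using hκ
    · rw [h5 s hs _ (Nat.mod_lt _ (by norm_num))]
      interval_cases r <;> interval_cases s <;> first | exact absurd rfl hne | simp [gO, Nat.beq]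
  · refine li_of_mono h (fun r => (3 - r) % 3) (fun r hr => ?_) fun r hr s hs hne => ?_
    · rw [h5 r hr _ (Nat.mod_lt _ (by norm_num))]
      interval_cases r
      · simpa [gO, Nat.beq, hκ, one_add_one_eq_two] using h6
      · simpa [gO, Nat.beq] using hκ
      · simpa [gO, Nat.beq] using hκ
    · rw [h5 s hs _ (Nat.mod_lt _ (by norm_num))]
      interval_cases r <;> interval_cases s <;> first | exact absurd rfl hne | simp [gO, Nat.beq]

theorem block_o4 (hO : Cl.IsO h F Q) {κ : K} (hκ : κ ≠ 0) {e : h.EB} (he : e * e = e) (hs : star e = e)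
    (hr : Cl.rk h e = 4) {W : Submodule K V} (hW : W ≤ LinearMap.range (h.ap e)) (hW2 : finrank K W = 2)
    (hQ : ∀ w ∈ W, Q w = 0) : ∃ v, OB h Q κ (h.ap e) 4 v := by
  have : Module.Finite K V := Module.Finite.of_finite
  have hb := hO.2.1
  have hτ := hO.1
  let c := Module.finBasisOfFinrankEq K W hW2
  have h1 : ∀ i : Fin 2, ∃ y, h.ap e y = y ∧ ∀ j, h.b (c j) y = if j = i then 1 else 0 := fun i => by
    obtain ⟨g, hg⟩ := LinearMap.exists_extend (c.coord i)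
    obtain ⟨w, hw⟩ := h.exists_rep g
    refine ⟨h.ap e w, by rw [← h.ap_mul, he], fun j => ?_⟩
    rw [← b_idem h hs, idem_of_mem h he (hW (c j).2), hw]
    have h2 := LinearMap.congr_fun hg (c j)
    rw [Basis.coord_apply, Basis.repr_self, Finsupp.single_apply] at h2
    exact h2
  choose y hy hy' using h1
  have h2 : ∀ u, ∀ w ∈ W, Q (u + w) = Q u + h.b w u := fun u w hw => by
    rw [hb, QuadraticMap.polar, hQ w hw, add_comm w u]
    ring
  have h3 : ∀ w ∈ W, ∀ w' ∈ W, h.b w w' = 0 := fun w hw w' hw' => by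
    have h3 := h2 w' w hw
    rw [hQ _ (W.add_mem hw' hw), hQ _ hw', zero_add] at h3
    exact h3.symm
  have hsym : ∀ u v, h.b u v = h.b v u := fun u v => by rw [hb, hb, QuadraticMap.polar_comm]
  obtain ⟨y₀, hy₀⟩ : ∃ y₀, y₀ = y 0 + (-Q (y 0)) • (c 0 : V) := ⟨_, rfl⟩
  obtain ⟨y₁, hy₁⟩ : ∃ y₁, y₁ = y 1 + ((-h.b (y 1) y₀) • (c 0 : V) + (-Q (y 1)) • (c 1 : V)) := ⟨_, rfl⟩
  have a0 : ∀ j, h.b (c j) y₀ = if j = 0 then 1 else 0 := fun j => by
    rw [hy₀, h.add_right, hy', h3 _ (c j).2 _ (W.smul_mem _ (c 0).2), add_zero]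
  have a1 : ∀ j, h.b (c j) y₁ = if j = 1 then 1 else 0 := fun j => by
    rw [hy₁, h.add_right, hy', h3 _ (c j).2 _ (W.add_mem (W.smul_mem _ (c 0).2) (W.smul_mem _ (c 1).2)), add_zero]
  have a2 : Q y₀ = 0 := by
    rw [hy₀, h2 _ _ (W.smul_mem _ (c 0).2), h.smul_left, hy']
    simp
  have a3 : Q y₁ = 0 := by
    rw [hy₁, h2 _ _ (W.add_mem (W.smul_mem _ (c 0).2) (W.smul_mem _ (c 1).2)), h.add_left, h.smul_left, h.smul_left,
      hy', hy']
    simp
  have a4 : h.b y₁ y₀ = 0 := by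
    rw [hy₁, h.add_left, h.add_left, h.smul_left, h.smul_left, a0, a0]
    simp
  have a5 : ∀ j, h.ap e (c j) = c j := fun j => idem_of_mem h he (hW (c j).2)
  refine ⟨fun r => [κ • (c 0 : V), κ • (c 1 : V), y₀, y₁].getD r 0, ob_mk hO hκ (Or.inl rfl) (fun r hr => ?_) hr
    (fun r hr => ?_) fun r hr s hs => ?_⟩
  · interval_cases r
    · exact (map_smul _ _ _).trans (by rw [a5]; rfl)
    · exact (map_smul _ _ _).trans (by rw [a5]; rfl)
    · change h.ap e y₀ = y₀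
      rw [hy₀, map_add, map_smul, hy, a5]
    · change h.ap e y₁ = y₁
      rw [hy₁, map_add, map_add, map_smul, map_smul, hy, a5, a5]
  · interval_cases r
    · simp [gO, Nat.beq, hQ _ (W.smul_mem κ (c 0).2)]
    · simp [gO, Nat.beq, hQ _ (W.smul_mem κ (c 1).2)]
    · simp [gO, Nat.beq, a2]
    · simp [gO, Nat.beq, a3]
  · interval_cases r <;> interval_cases s
    · simp [gO, Nat.beq, h3 _ (W.smul_mem κ (c 1).2) _ (W.smul_mem κ (c 0).2)]
    · simp [gO, Nat.beq, hsym y₀, h.smul_left, a0]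
    · simp [gO, Nat.beq, hsym y₀, h.smul_left, a0]
    · simp [gO, Nat.beq, hsym y₁, h.smul_left, a1]
    · simp [gO, Nat.beq, hsym y₁, h.smul_left, a1]
    · simp [gO, Nat.beq, a4]

theorem block_o3 (hO : Cl.IsO h F Q) (h2 : (2 : K) ≠ 0) {e : h.EB} (he : e * e = e) (hs : star e = e)
    (hr : Cl.rk h e = 3) : ∃ κ, κ ≠ 0 ∧ ∃ v, OB h Q κ (h.ap e) 3 v := by
  have : Module.Finite K V := Module.Finite.of_finite
  have hb := hO.2.1
  let W := LinearMap.range (h.ap e)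
  have hp : ∀ x y : W, QuadraticMap.polar (Q.comp W.subtype) x y = h.b x y := fun x y => by
    rw [hb]
    simp only [QuadraticMap.polar, QuadraticMap.comp_apply, map_add]
    rfl
  have hsym : ∀ u v, h.b u v = h.b v u := fun u v => by rw [hb, hb, QuadraticMap.polar_comm]
  have hn : ∀ v : W, (∀ u : W, h.b u v = 0) → v = 0 := fun v hv => Subtype.ext (h.nondeg _ fun u => by
    have h1 : h.b (h.ap e u) v = 0 := hv ⟨h.ap e u, u, rfl⟩
    rwa [b_idem h hs, idem_of_mem h he v.2] at h1)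
  obtain ⟨c, h3, h4, h5, h6, -⟩ := Cfsg.Agent.S2618.result (m := 1) (V := W) hr (Q.comp W.subtype)
    ⟨fun x hx => hn x fun y => by rw [hsym, ← hp]; exact hx y, fun x hx => hn x fun y => by rw [← hp]; exact hx y⟩
  obtain ⟨a1, a2⟩ := h4 0
  obtain ⟨a3, a4⟩ := h5 0
  have a5 := h6 0 0
  rw [hp] at a1 a2 a5
  rw [QuadraticMap.comp_apply, Submodule.subtype_apply] at h3 a3 a4
  obtain ⟨κ, hκ⟩ : ∃ κ, κ = Q (c (Sum.inl ())) := ⟨_, rfl⟩
  refine ⟨κ, hκ ▸ h3, fun r => [(c (.inl ()) : V), κ • (c (.inr (.inl 0)) : V), (c (.inr (.inr 0)) : V)].getD r 0,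
    ob_mk hO (hκ ▸ h3) (Or.inr ⟨rfl, h2⟩) (fun r hr => ?_) hr (fun r hr => ?_) fun r hr s hs => ?_⟩
  · interval_cases r
    · exact idem_of_mem h he (c _).2
    · exact idem_of_mem h he (W.smul_mem _ (c _).2)
    · exact idem_of_mem h he (c _).2
  · interval_cases r
    · simp [gO, Nat.beq, hκ]
    · simp [gO, Nat.beq, QuadraticMap.map_smul, a3]
    · simp [gO, Nat.beq, a4]
  · interval_cases r <;> interval_cases s
    · simp [gO, Nat.beq, h.smul_left, hsym (c (.inr (.inl 0)) : V), a1]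
    · simp [gO, Nat.beq, hsym (c (.inr (.inr 0)) : V), a2]
    · simp [gO, Nat.beq, hsym (c (.inr (.inr 0)) : V), h.smul_left, a5]

theorem OB.map (hO : Cl.IsO h F Q) {κ : K} {e e' : h.EB} {d : ℕ} {v : ℕ → V} (hv : OB h Q κ (h.ap e) d v)
    {u : h.EBˣ} (hu : u ∈ F.Iso) (hue : cj h.EB u e = e') (hr : Cl.rk h e' = d) :
    OB h Q κ (h.ap e') d fun r => h.ap u (v r) := by
  obtain ⟨hτ, hb, hL, hl⟩ := hO
  have h1 := (h.unit_iff u).1 hu.1
  refine ⟨⟨fun r hr => ?_, hv.bb.li.map' (h.ap u) (LinearMap.ker_eq_bot'.2 fun x hx => ?_), hr⟩, fun r hr => ?_,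
    fun r hr s hs hne => by rw [h1, hv.pol r hr s hs hne]⟩
  · rw [← h.ap_mul, ← hue, cj_mul_eq, h.ap_mul, hv.bb.mem r hr]
  · exact h.nondeg _ fun y => by rw [← h1, hx, h.zero_right]
  · obtain ⟨a, ha⟩ : (u : h.EB) * F.l * star (u : h.EB) - F.l ∈ Lmin h.EB := hL ▸ hu.2
    have h2 := congrArg (fun x => h.b (h.ap u (v r)) (h.ap x (h.ap u (v r)))) ha
    simp only [h.ap_sub, h.sub_right, h.ap_mul, h.b_star, hl] at h2
    rw [← h.ap_mul (star (u : h.EB)), FR.Iso.sm hu, h.ap_one, h1, hl, hb, hb, QuadraticMap.polar_comm, sub_self,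
      sub_eq_zero] at h2
    rw [← h2, hv.sq r hr]

end Cfsg.Agent.SB.Idem
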