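import Cfsg.Agent.SB.Idem.CU
import Cfsg.Agent.SB.Idem.CSp
import Cfsg.Agent.SB.Idem.CO
import Cfsg.Agent.SB.Idem.Orth
import Cfsg.Agent.SB.Cl.Basic

/-!
# S5765, classical rows `RowSp`, `RowU2`, `RowO3` (helper96)
-/

set_option autoImplicit false

namespace Cfsg.Agent.SB.Idem

open Cfsg.Agent.DS.Cl Cfsg.Agent.DS.Cl.Fwd Cfsg.Agent.SB.Cl

theorem rowSp : RowSp := by
  intro K V _ _ _ _ _ h F S D hF hc hD hinv hK hm
  refine hc.good_of_four ?_
  rcases card_le_three hK with hK | hK <;> rcases hm.1 with ht | ht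
  · exact four_sp h Nat.prime_two (by norm_num) hK hc.ss hF cSp2_222 cSp2_222_0 cSp2_222_1 cSp2_222_2 cSp2_222_3 cSp2_222_4 cSp2_222_5
      hD ht hm.2 hc.le_SAut hinv
  · exact four_sp h Nat.prime_two (by norm_num) hK hc.ss hF cSp2_2222 cSp2_2222_0 cSp2_2222_1 cSp2_2222_2 cSp2_2222_3 cSp2_2222_4 cSp2_2222_5
      hD ht hm.2 hc.le_SAut hinv
  · exact four_sp h Nat.prime_three (by norm_num) hK hc.ss hF cSp3_222 cSp3_222_0 cSp3_222_1 cSp3_222_2 cSp3_222_3 cSp3_222_4 cSp3_222_5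
      hD ht hm.2 hc.le_SAut hinv
  · exact four_sp h Nat.prime_three (by norm_num) hK hc.ss hF cSp3_2222 cSp3_2222_0 cSp3_2222_1 cSp3_2222_2 cSp3_2222_3 cSp3_2222_4 cSp3_2222_5
      hD ht hm.2 hc.le_SAut hinv

theorem rowU2 : RowU2 := by
  intro K V _ _ _ _ _ h F S D hU hc hD hinv H
  refine hc.good_of_four ?_
  rcases H with ⟨hK, H⟩ | ⟨hK, H⟩
  · obtain ⟨_, ω, hω, ha, hk⟩ := field_four hK
    rcases H with H | H | ⟨ht | ht, H⟩ | ⟨ht | ht, H⟩
    · obtain ⟨e, he, hr⟩ := en_of_two H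
      exact four_u h (by norm_num) (by norm_num) hω ha hk hc.ss hU cU4_23 cU4_23_0 cU4_23_1 cU4_23_2 cU4_23_3 cU4_23_4 cU4_23_5
        hD he hr hc.le_SAut hinv
    · obtain ⟨e, he, hr⟩ := en_of_two H
      exact four_u h (by norm_num) (by norm_num) hω ha hk hc.ss hU cU4_33 cU4_33_0 cU4_33_1 cU4_33_2 cU4_33_3 cU4_33_4 cU4_33_5
        hD he (fun b hb => (hr b hb).trans (Bool.cond_self _ _)) hc.le_SAut hinv
    · obtain ⟨e, he⟩ := en_of_card ht
      exact four_u h (by norm_num) (by norm_num) hω ha hk hc.ss hU cU4_222 cU4_222_0 cU4_222_1 cU4_222_2 cU4_222_3 cU4_222_4 cU4_222_5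
        hD he (fun b hb => H _ (he.mem b hb)) hc.le_SAut hinv
    · obtain ⟨e, he⟩ := en_of_card ht
      exact four_u h (by norm_num) (by norm_num) hω ha hk hc.ss hU cU4_2222 cU4_2222_0 cU4_2222_1 cU4_2222_2 cU4_2222_3 cU4_2222_4 cU4_2222_5
        hD he (fun b hb => H _ (he.mem b hb)) hc.le_SAut hinv
    · obtain ⟨e, he⟩ := en_of_card ht
      exact four_u h (by norm_num) (by norm_num) hω ha hk hc.ss hU cU4_333 cU4_333_0 cU4_333_1 cU4_333_2 cU4_333_3 cU4_333_4 cU4_333_5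
        hD he (fun b hb => H _ (he.mem b hb)) hc.le_SAut hinv
    · obtain ⟨e, he⟩ := en_of_card ht
      exact four_u h (by norm_num) (by norm_num) hω ha hk hc.ss hU cU4_3333 cU4_3333_0 cU4_3333_1 cU4_3333_2 cU4_3333_3 cU4_3333_4 cU4_3333_5
        hD he (fun b hb => H _ (he.mem b hb)) hc.le_SAut hinv
  · obtain ⟨_, ω, hω, ha, hk⟩ := field_nine hK
    rcases H with H | ⟨ht | ht, H⟩
    · obtain ⟨e, he, hr⟩ := en_of_two H
      exact four_u h (by norm_num) (by norm_num) hω ha hk hc.ss hU cU9_22 cU9_22_0 cU9_22_1 cU9_22_2 cU9_22_3 cU9_22_4 cU9_22_5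
        hD he (fun b hb => (hr b hb).trans (Bool.cond_self _ _)) hc.le_SAut hinv
    · obtain ⟨e, he⟩ := en_of_card ht
      exact four_u h (by norm_num) (by norm_num) hω ha hk hc.ss hU cU9_222 cU9_222_0 cU9_222_1 cU9_222_2 cU9_222_3 cU9_222_4 cU9_222_5
        hD he (fun b hb => H _ (he.mem b hb)) hc.le_SAut hinv
    · obtain ⟨e, he⟩ := en_of_card ht
      exact four_u h (by norm_num) (by norm_num) hω ha hk hc.ss hU cU9_2222 cU9_2222_0 cU9_2222_1 cU9_2222_2 cU9_2222_3 cU9_2222_4 cU9_2222_5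
        hD he (fun b hb => H _ (he.mem b hb)) hc.le_SAut hinv

theorem rowO3 : RowO3 := by
  intro K V _ _ _ _ _ h F Q S D hO hc hD hinv hP H
  refine hc.good_of_four ?_
  have h4 : ∀ κ : K, κ ≠ 0 → ∀ e ∈ D, rk h e = 4 → ∃ v, OB h Q κ (h.ap e) 4 v := fun κ hκ e he hr => by
    obtain ⟨W, h1, h2, h3⟩ := hP e he hr
    exact block_o4 hO hκ (hD.idem e he) (hD.symm e he) hr h1 h2 h3
  rcases H with ⟨hK, H⟩ | ⟨hK, H⟩
  · have h2 : (2 : K) ≠ 0 := fun h2 => by
      have := (prime_field Nat.prime_three hK).1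
      exact absurd ((CharP.cast_eq_zero_iff K 3 2).1 (by exact_mod_cast h2)) (by norm_num)
    rcases H with H | ⟨hI, ht, H⟩
    · obtain ⟨e, he, hr⟩ := en_of_two H
      have m0 := he.mem 0 (by norm_num)
      obtain ⟨κ, hκ, v, hv⟩ := block_o3 hO h2 (hD.idem _ m0) (hD.symm _ m0) (hr 0 (by norm_num))
      obtain ⟨v', hv'⟩ := h4 κ hκ _ (he.mem 1 (by norm_num)) (hr 1 (by norm_num))
      refine four_o h Nat.prime_three (by norm_num) hK hc.ss hO cO3_34 cO3_34_0 cO3_34_1 cO3_34_2 cO3_34_3 cO3_34_4 cO3_34_5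
        hD he (κ := κ) (v := fun b => cond (Nat.beq b 0) v v') (fun b (hb : b < 2) => ?_) hc.le_SAut hinv
      interval_cases b
      exacts [hv, hv']
    · obtain ⟨e₀, m0⟩ : D.Nonempty := Finset.card_pos.1 (by omega)
      obtain ⟨κ, hκ, v, hv⟩ := block_o3 hO h2 (hD.idem _ m0) (hD.symm _ m0) (H _ m0)
      have h3 : ∀ e ∈ D, ∃ v, OB h Q κ (h.ap e) 3 v := fun e he => by
        obtain ⟨u, hu, hue⟩ := hI _ m0 e he
        exact ⟨_, hv.map hO hu hue (H e he)⟩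
      choose! w hw using h3
      rcases ht with ht | ht <;> obtain ⟨e, he⟩ := en_of_card ht
      · exact four_o h Nat.prime_three (by norm_num) hK hc.ss hO cO3_333 cO3_333_0 cO3_333_1 cO3_333_2 cO3_333_3 cO3_333_4 cO3_333_5
          hD he (fun b hb => hw _ (he.mem b hb)) hc.le_SAut hinv
      · exact four_o h Nat.prime_three (by norm_num) hK hc.ss hO cO3_3333 cO3_3333_0 cO3_3333_1 cO3_3333_2 cO3_3333_3 cO3_3333_4 cO3_3333_5
          hD he (fun b hb => hw _ (he.mem b hb)) hc.le_SAut hinv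
  · obtain ⟨ht, H⟩ : (D.card = 2 ∨ D.card = 3 ∨ D.card = 4) ∧ ∀ e ∈ D, rk h e = 4 := by
      rcases H with H | H
      · obtain ⟨e, he, hr⟩ := en_of_two H
        refine ⟨Or.inl H.1, fun x hx => ?_⟩
        obtain ⟨b, hb, rfl⟩ := he.surj x hx
        exact (hr b hb).trans (Bool.cond_self _ _)
      · exact ⟨Or.inr H.1, H.2⟩
    choose! w hw using fun e he => h4 1 one_ne_zero e he (H e he)
    rcases card_le_three hK with hK | hK <;> rcases ht with ht | ht | ht <;> obtain ⟨e, he⟩ := en_of_card ht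
    · exact four_o h Nat.prime_two (by norm_num) hK hc.ss hO cO2_44 cO2_44_0 cO2_44_1 cO2_44_2 cO2_44_3 cO2_44_4 cO2_44_5
        hD he (fun b hb => hw _ (he.mem b hb)) hc.le_SAut hinv
    · exact four_o h Nat.prime_two (by norm_num) hK hc.ss hO cO2_444 cO2_444_0 cO2_444_1 cO2_444_2 cO2_444_3 cO2_444_4 cO2_444_5
        hD he (fun b hb => hw _ (he.mem b hb)) hc.le_SAut hinv
    · exact four_o h Nat.prime_two (by norm_num) hK hc.ss hO cO2_4444 cO2_4444_0 cO2_4444_1 cO2_4444_2 cO2_4444_3 cO2_4444_4 cO2_4444_5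
        hD he (fun b hb => hw _ (he.mem b hb)) hc.le_SAut hinv
    · exact four_o h Nat.prime_three (by norm_num) hK hc.ss hO cO3_44 cO3_44_0 cO3_44_1 cO3_44_2 cO3_44_3 cO3_44_4 cO3_44_5
        hD he (fun b hb => hw _ (he.mem b hb)) hc.le_SAut hinv
    · exact four_o h Nat.prime_three (by norm_num) hK hc.ss hO cO3_444 cO3_444_0 cO3_444_1 cO3_444_2 cO3_444_3 cO3_444_4 cO3_444_5
        hD he (fun b hb => hw _ (he.mem b hb)) hc.le_SAut hinv
    · exact four_o h Nat.prime_three (by norm_num) hK hc.ss hO cO3_4444 cO3_4444_0 cO3_4444_1 cO3_4444_2 cO3_4444_3 cO3_4444_4 cO3_4444_5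
        hD he (fun b hb => hw _ (he.mem b hb)) hc.le_SAut hinv

end Cfsg.Agent.SB.Idem
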