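import Cfsg.Agent.SB.Idem.Form
import Cfsg.Agent.ClassicalGeometry.HermOrthonormal
import Cfsg.Agent.S2618

/-!
# S5765, classical rows: the engine for symplectic, unitary and orthogonal groups (helper96)
-/

set_option autoImplicit false

namespace Cfsg.Agent.SB.Idem

open Cfsg.Agent.DS.Cl Cfsg.Agent.DS.Cl.Fwd Module Matrix Ar

/-- all checks for symplectic and unitary groups -/
def Cert.okB (a : Ar) (C : Cert) (ps B : ℕ) (d : ℕ → ℕ) (g : ℕ → ℕ → ℕ → ℕ) (L : List (List ℕ)) : Bool :=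
  C.shOK ps d && C.gramOK a ps B g && allTo 3 fun k => isoOK a C.n B (C.x k) (L.getD k []) &&
    Nat.beq ((L.getD k []).getD 3 0) B

/-- all checks for orthogonal groups -/
def Cert.okO (a : Ar) (C : Cert) (ps B : ℕ) (d : ℕ → ℕ) (g : ℕ → ℕ → ℕ → ℕ) (L : List (List ℕ)) : Bool :=
  C.shOK ps d && C.gramOK a ps B g && allTo 3 fun k => isoOK a C.n B (C.x k) (L.getD k []) &&
    altOK a C.n B ((L.getD k []).getD 3 0)

/-- the symplectic plane -/
def gSp (p r s : ℕ) : ℕ := cond (Nat.beq r 0 && Nat.beq s 1) 1 (cond (Nat.beq r 1 && Nat.beq s 0) (Nat.pred p) 0)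

/-- orthonormal bases -/
def gU (r s : ℕ) : ℕ := cond (Nat.beq r s) 1 0

/-- the forms `x₀² + x₁ x₂` and `x₀ x₂ + x₁ x₃` -/
def gO (d r s : ℕ) : ℕ := cond (Nat.beq d 3) (cond ((Nat.beq r 0 && Nat.beq s 0) || (Nat.beq r 1 && Nat.beq s 2)) 1 0)
  (cond ((Nat.beq r 0 && Nat.beq s 2) || (Nat.beq r 1 && Nat.beq s 3)) 1 0)

variable {K V : Type} [Field K] [Finite K] [AddCommGroup V] [Module K V] [Finite V] (h : HF K V)

theorem b_idem {e : h.EB} (hs : star e = e) (u x : V) : h.b (h.ap e u) x = h.b u (h.ap e x) := by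
  rw [← h.b_star, hs]

omit [Finite K] [Finite V] in
theorem idem_of_mem {e : h.EB} (he : e * e = e) {x : V} (hx : x ∈ LinearMap.range (h.ap e)) : h.ap e x = x := by
  obtain ⟨y, rfl⟩ := hx
  rw [← h.ap_mul, he]

theorem block_sp (hb : ∀ v, h.b v v = 0) {e : h.EB} (he : e * e = e) (hs : star e = e) (hr : Cl.rk h e = 2) :
    ∃ v, BB (h.ap e) 2 v ∧ h.b (v 0) (v 1) = 1 ∧ h.b (v 1) (v 0) = -1 := by
  have : Module.Finite K V := Module.Finite.of_finite
  obtain ⟨w, hw⟩ := exists_BB (E := h.ap e) he hr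
  obtain ⟨u, hu⟩ := h.exists_ne (hw.li.ne_zero 0)
  have h0 := hw.mem 0 (by norm_num)
  change h.b u (w 0) ≠ 0 at hu
  obtain ⟨y, hy⟩ : ∃ y, y = (h.b u (w 0))⁻¹ • h.ap e u := ⟨_, rfl⟩
  have h1 : h.b y (w 0) = 1 := by rw [hy, h.smul_left, b_idem h hs, h0, inv_mul_cancel₀ hu]
  have h2 : h.b (w 0) y = -1 := by
    have h3 := hb (y + w 0)
    rw [h.add_left, h.add_right, h.add_right, hb, hb, h1] at h3
    linear_combination h3
  refine ⟨fun r => cond (Nat.beq r 0) y (w 0), ⟨fun r hr => ?_, li_of_mono h (v := fun r => cond (Nat.beq r 0) y (w 0))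
    (fun r => 1 - r) (fun r hr => ?_) fun r hr s hs hne => ?_, hr⟩, h1, h2⟩
  · interval_cases r
    · change h.ap e y = y
      rw [hy, map_smul, ← h.ap_mul, he]
    · exact h0
  · interval_cases r
    · exact h1 ▸ one_ne_zero
    · exact h2 ▸ neg_ne_zero.2 one_ne_zero
  · interval_cases r <;> interval_cases s
    exacts [absurd rfl hne, hb _, hb _, absurd rfl hne]

theorem four_sp {p : ℕ} (hp : p.Prime) (h4 : p ≤ 4) (hK : Nat.card K = p) {F : FR h.EB} (hA : SS h.EB)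
    (hF : Cl.IsSp h F) (C : Cert) (H₀ : C.ok₀ (arP p) = true) (H₁ : C.ok₁ (arP p) = true) (H₂ : C.ok₂ (arP p) = true)
    (H₃ : C.ok₃ (arP p) false = true) (H₄ : C.ok₄ (arP p) = true) {ps B : ℕ} {L : List (List ℕ)}
    (H₅ : C.okB (arP p) ps B (fun _ => 2) (fun _ => gSp p) L = true)
    {D : Finset h.EB} (hD : Fr D) (ht : D.card = C.t) (hr : ∀ e ∈ D, Cl.rk h e = 2)
    {S : Subgroup (RingAut h.EB)} (hS : S ≤ SAut h.EB) (hinv : Inv S D) : Four F.S S := by
  obtain ⟨_, hk⟩ := prime_field hp hK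
  have ha := arP_sound (K := K) hp.pos h4
  obtain ⟨hτ, hb, hL⟩ := hF
  obtain ⟨e, he⟩ := en_of_card ht
  simp only [Cert.okB, Bool.and_eq_true] at H₅
  obtain ⟨⟨H₅, H₆⟩, H₇⟩ := H₅
  choose! v hv hv1 hv2 using fun b (hb' : b < C.t) =>
    block_sp h hb (hD.idem _ (he.mem b hb')) (hD.symm _ (he.mem b hb')) (hr _ (he.mem b hb'))
  refine four_form h hA ha C false H₀ H₁ H₂ H₃ H₄ H₅ H₆ hD he hv (fun c h1 =>
    ⟨fun s _ => Or.inl (lin_of_prime h c hk s), fun k hk' => lift_max h c hL ?_⟩) hS hinv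
  have h2 : gram h c = (arP p).M (fun x : ℕ => (x : K)) C.n B := by
    ext i j
    rcases h1 i j with ⟨h2, h3, -⟩ | ⟨b, hb', r, hr, s, hs, h2, h3, -, h5, -⟩
    · exact h2.trans h3.symm
    · rw [h5, gram, Matrix.of_apply, h2, h3]
      interval_cases r <;> interval_cases s
      · exact (hb _).trans Nat.cast_zero.symm
      · exact (hv1 b hb').trans Nat.cast_one.symm
      · refine (hv2 b hb').trans ?_
        change _ = ((p - 1 : ℕ) : K)
        rw [Nat.cast_sub hp.pos, CharP.cast_eq_zero K p, Nat.cast_one, zero_sub]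
      · exact (hb _).trans Nat.cast_zero.symm
  have h3 := allTo_iff.1 H₇ k hk'
  rw [Bool.and_eq_true, Nat.beq_eq] at h3
  rw [h2, of_isoOK ha (Cert.of_ok₀ ha H₀).1 (fun x => (hτ _).symm) h3.1, h3.2]

theorem block_u (hU : Cl.IsU h) {e : h.EB} (he : e * e = e) (hs : star e = e) {d : ℕ} (hr : Cl.rk h e = d) :
    ∃ v, BB (h.ap e) d v ∧ ∀ r < d, ∀ s < d, h.b (v r) (v s) = if r = s then 1 else 0 := by
  have : Module.Finite K V := Module.Finite.of_finite
  obtain ⟨hε, y, hy⟩ := hU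
  let W := LinearMap.range (h.ap e)
  let β : W →ₛₗ[h.τ] W →ₗ[K] K := LinearMap.mk₂'ₛₗ h.τ (RingHom.id K) (fun v w => h.b w v)
    (fun _ _ _ => h.add_right _ _ _) (fun _ _ _ => h.smul_right _ _ _) (fun _ _ _ => h.add_left _ _ _)
    fun _ _ _ => h.smul_left _ _ _
  obtain ⟨c, hc⟩ := ClassicalGeometry.HermOrthonormal.exists_orthonormal_basis (σ := h.τ)
    (fun h0 => hy (by rw [h0]; rfl)) h.τ_τ β ⟨fun v w => by
      change h.τ (h.b w v) = h.b v w
      rw [h.swap (w : V) v, hε, one_mul]⟩ fun v hv => Subtype.ext (h.nondeg _ fun u => by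
        have h1 : h.b (h.ap e u) v = 0 := hv ⟨h.ap e u, u, rfl⟩
        rwa [b_idem h hs, idem_of_mem h he v.2] at h1)
  obtain rfl : finrank K W = d := hr
  refine ⟨fun r => if h : r < _ then c ⟨r, h⟩ else 0, ⟨fun r hr => ?_, ?_, rfl⟩, fun r hr s hs => ?_⟩
  · rw [dif_pos hr]
    exact idem_of_mem h he (c ⟨r, hr⟩).2
  · simp only [Fin.is_lt, dif_pos]
    exact c.linearIndependent.map' W.subtype (Submodule.ker_subtype _)
  · simp only [dif_pos hr, dif_pos hs]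
    refine (hc ⟨s, hs⟩ ⟨r, hr⟩).trans ?_
    simp only [Fin.mk.injEq, eq_comm]

theorem four_u {p c₀ c₁ : ℕ} [CharP K p] (hp : 0 < p) (h4 : p ≤ 4) {ω : K} (hω : ω ^ 2 = c₁ * ω + c₀)
    (ha : (arQ p c₀ c₁).Sound (evQ ω)) (hk : ∀ y : K, ∃ x x' : ℕ, y = x + x' * ω) {F : FR h.EB} (hA : SS h.EB)
    (hU : Cl.IsU h) (C : Cert) (H₀ : C.ok₀ (arQ p c₀ c₁) = true) (H₁ : C.ok₁ (arQ p c₀ c₁) = true)
    (H₂ : C.ok₂ (arQ p c₀ c₁) = true) (H₃ : C.ok₃ (arQ p c₀ c₁) true = true) (H₄ : C.ok₄ (arQ p c₀ c₁) = true)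
    {ps B : ℕ} {d : ℕ → ℕ} {L : List (List ℕ)} (H₅ : C.okB (arQ p c₀ c₁) ps B d (fun _ => gU) L = true)
    {D : Finset h.EB} (hD : Fr D) {e : ℕ → h.EB} (he : En D C.t e) (hr : ∀ b < C.t, Cl.rk h (e b) = d b)
    {S : Subgroup (RingAut h.EB)} (hS : S ≤ SAut h.EB) (hinv : Inv S D) : Four F.S S := by
  simp only [Cert.okB, Bool.and_eq_true] at H₅
  obtain ⟨⟨H₅, H₆⟩, H₇⟩ := H₅
  choose! v hv hv1 using fun b (hb' : b < C.t) =>
    block_u h hU (hD.idem _ (he.mem b hb')) (hD.symm _ (he.mem b hb')) (hr b hb')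
  have hroot : ∀ y : K, y ^ 2 = c₁ * y + c₀ → y = ω ∨ y = c₁ - ω := fun y hy => by
    have h1 : (y - ω) * (y - (c₁ - ω)) = 0 := by linear_combination hy - hω
    exact (mul_eq_zero.1 h1).imp sub_eq_zero.1 sub_eq_zero.1
  obtain ⟨hε, y, hy⟩ := hU
  have hτ : h.τ ω = c₁ - ω := by
    refine (hroot _ (by rw [← map_pow, hω, map_add, map_mul, map_natCast, map_natCast])).resolve_left fun h1 => hy ?_
    obtain ⟨x, x', rfl⟩ := hk y
    rw [map_add, map_mul, map_natCast, map_natCast, h1]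
  have hstar : ∀ y : K, star (h.eb (y • 1)) = h.eb (h.τ y • 1) := fun y => h.ap_ext fun x => h.ext_right fun u => by
    rw [h.b_star, h.ap_eb, h.ap_eb, LinearMap.smul_apply, LinearMap.smul_apply, h.smul_left, h.smul_right, h.τ_τ]
    rfl
  have hL : F.L = Lmax h.EB := by
    refine F.L_eq (h.smul_mem_center (y / (y - h.τ y))) ?_
    have h1 : y - h.τ y ≠ 0 := sub_ne_zero.2 (Ne.symm hy)
    have h2 : h.τ y - y ≠ 0 := sub_ne_zero.2 hy
    rw [hstar]
    refine h.ap_ext fun x => ?_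
    rw [h.ap_add, h.ap_eb, h.ap_eb, LinearMap.smul_apply, LinearMap.smul_apply, ← add_smul, map_div₀, map_sub, h.τ_τ, show y / (y - h.τ y) + h.τ y / (h.τ y - y) = 1 by field_simp; ring, one_smul]
    rfl
  refine four_form h hA ha C true H₀ H₁ H₂ H₃ H₄ H₅ H₆ hD he hv (fun c h1 => ?_) hS hinv
  have h2 : gram h c = (arQ p c₀ c₁).M (evQ ω) C.n B ∧ gram h c = 1 := by
    constructor <;> ext i j <;> rcases h1 i j with ⟨h2, h3, -, h6⟩ | ⟨b, hb', r, hr, s, hs, h2, h3, h4, h5, -⟩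
    · exact h2.trans h3.symm
    · rw [h5, gram, Matrix.of_apply, h2, h3, hv1 b hb' r hr s hs, gU]
      by_cases hrs : r = s
      · simp [hrs, ha.ev1]
      · rw [if_neg hrs, Bool.eq_false_iff.2 fun e => hrs (Nat.eq_of_beq_eq_true e), cond_false, ha.ev0]
    · rw [Matrix.one_apply_ne h6]
      exact h2
    · rw [gram, Matrix.of_apply, h2, h3, hv1 b hb' r hr s hs, Matrix.one_apply]
      simp only [h4]
  have h3 : ∀ x, piB h c (star x) = ((piB h c x).map h.τ)ᵀ := fun x => by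
    ext i j
    have h3 := h.star_b x (c j) (c i)
    have h4 : ∀ i j, h.b (c i) (c j) = if i = j then 1 else 0 := fun i j =>
      (congrFun (congrFun h2.2 i) j).trans (Matrix.one_apply)
    rw [ap_basis h c, ap_basis h c, b_sum_left, b_sum_right] at h3
    simpa [h4] using h3
  let τ' : K ≃+* K := RingEquiv.ofRingHom h.τ h.τ (RingHom.ext h.τ_τ) (RingHom.ext h.τ_τ)
  let π := RingEquiv.ofBijective (piB h c) (piB_bij h c)
  let κ : RingAut h.EB := (π.trans τ'.mapMatrix).trans π.symm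
  have hκ : ∀ x, piB h c (κ x) = (piB h c x).map h.τ := fun x => π.apply_symm_apply _
  refine ⟨htr_of hA (piB h c) κ (h.eb (ω • 1)) (fun s hs x hx => ?_) (fun s _ => ?_) ((piB_bij h c).1 ?_) fun x => ?_,
    fun k hk' => lift_max h c hL ?_⟩
  · obtain ⟨y, rfl⟩ := cen_scalar h c hx
    obtain ⟨x, x', rfl⟩ := hk y
    have h4 : h.eb (((x : K) + x' * ω) • 1) = x + x' * h.eb (ω • 1) := by
      rw [← eb_natCast, ← eb_natCast, ← h.eb_smul, add_smul, mul_smul]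
      rfl
    rw [h4, map_add, map_mul, map_natCast, map_natCast, hs]
  · obtain ⟨y, hy⟩ := cen_scalar h c (map_cen s (h.smul_mem_center ω))
    have h4 : ∀ y : K, y ^ 2 = c₁ * y + c₀ ↔ h.eb (y • 1) * h.eb (y • 1) = c₁ * h.eb (y • 1) + c₀ := fun y => by
      have : Nontrivial h.EB := hA.nontrivial
      have h5 : Function.Injective (algebraMap K (End K V)) := by
        have : Nontrivial (End K V) := this
        exact (algebraMap K (End K V)).injective
      rw [← h5.eq_iff, sq, map_mul, map_add, map_mul, map_natCast, map_natCast, Algebra.algebraMap_eq_smul_one]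
      rfl
    have h5 := congrArg s ((h4 ω).1 hω)
    rw [map_mul, map_add, map_mul, map_natCast, map_natCast, hy] at h5
    rw [hy, hstar, hτ]
    exact (hroot y ((h4 y).2 h5)).imp (fun e => by rw [e]) fun e => by rw [e]
  · rw [hκ, hstar, piB_smul, piB_smul, Matrix.scalar_apply, Matrix.scalar_apply, Matrix.diagonal_map (map_zero _)]
    simp only [h.τ_τ]
  · rw [hκ, h3, Matrix.trace_transpose]
  · have h4 := allTo_iff.1 H₇ k hk'
    rw [Bool.and_eq_true, Nat.beq_eq] at h4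
    rw [h2.1, of_isoOK ha (Cert.of_ok₀ ha H₀).1 (arQ_cj hp ‹_› hτ) h4.1, h4.2]

/-- a standard basis of an orthogonal block -/
structure OB (Q : QuadraticForm K V) (κ : K) (E : End K V) (d : ℕ) (v : ℕ → V) : Prop where
  bb : BB E d v
  sq : ∀ r < d, Q (v r) = κ * gO d r r
  pol : ∀ r < d, ∀ s < d, r ≠ s → h.b (v r) (v s) = κ * (gO d r s + gO d s r)

theorem four_o {p : ℕ} (hp : p.Prime) (h4 : p ≤ 4) (hK : Nat.card K = p) {F : FR h.EB} (hA : SS h.EB)
    {Q : QuadraticForm K V} (hF : Cl.IsO h F Q) (C : Cert) (H₀ : C.ok₀ (arP p) = true) (H₁ : C.ok₁ (arP p) = true)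
    (H₂ : C.ok₂ (arP p) = true) (H₃ : C.ok₃ (arP p) false = true) (H₄ : C.ok₄ (arP p) = true) {ps B : ℕ} {d : ℕ → ℕ}
    {L : List (List ℕ)} (H₅ : C.okO (arP p) ps B d (fun b => gO (d b)) L = true)
    {D : Finset h.EB} (hD : Fr D) {e : ℕ → h.EB} (he : En D C.t e) {κ : K} {v : ℕ → ℕ → V}
    (hv : ∀ b < C.t, OB h Q κ (h.ap (e b)) (d b) (v b))
    {S : Subgroup (RingAut h.EB)} (hS : S ≤ SAut h.EB) (hinv : Inv S D) : Four F.S S := by
  obtain ⟨_, hk⟩ := prime_field hp hK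
  have ha := arP_sound (K := K) hp.pos h4
  simp only [Cert.okO, Bool.and_eq_true] at H₅
  obtain ⟨⟨H₅, H₆⟩, H₇⟩ := H₅
  refine four_form h hA ha C false H₀ H₁ H₂ H₃ H₄ H₅ H₆ hD he (fun b hb => (hv b hb).bb) (fun c h1 =>
    ⟨fun s _ => Or.inl (lin_of_prime h c hk s), fun k hk' => ?_⟩) hS hinv
  have h3 := allTo_iff.1 H₇ k hk'
  rw [Bool.and_eq_true] at h3
  refine lift_O h c hF (κ := κ) (fun i => ?_) (fun i j hij => ?_)
    (of_isoOK ha (Cert.of_ok₀ ha H₀).1 (τ := id) (fun _ => rfl) h3.1) (of_altOK ha h3.2)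
  · rcases h1 i i with ⟨-, -, -, h5⟩ | ⟨b, hb, r, hr, s, hs, h5, -, h7, h8, -⟩
    · exact absurd rfl h5
    · rw [h5, h8, ← h7.1 rfl, (hv b hb).sq r hr]
  · rcases h1 i j with ⟨h5, h6, h7, -⟩ | ⟨b, hb, r, hr, s, hs, h5, h6, h7, h8, h9⟩
    · rw [h5, h6, h7, add_zero, mul_zero]
    · rw [h5, h6, h8, h9, (hv b hb).pol r hr s hs fun e => hij (h7.2 e)]

end Cfsg.Agent.SB.Idem
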