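import Mathlib

/-!
# S5765, classical rows: kernel arithmetic for matrices over `F₂, F₃, F₄, F₉` (helper96)

Matrices are natural numbers (`w` bits for an entry); `ev : ℕ → K` decodes an entry.
-/

set_option autoImplicit false

namespace Cfsg.Agent.SB.Idem

open Finset

/-- `∑ i < n, f i` -/
def sumTo (n : ℕ) (f : ℕ → ℕ) : ℕ := Nat.rec 0 (fun i acc => Nat.add acc (f i)) n

/-- `∀ i < n, f i` -/
def allTo (n : ℕ) (f : ℕ → Bool) : Bool := Nat.rec true (fun i acc => f i && acc) n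

theorem sumTo_succ (n : ℕ) (f : ℕ → ℕ) : sumTo (n + 1) f = sumTo n f + f n := rfl

theorem allTo_iff {n : ℕ} {f : ℕ → Bool} : allTo n f = true ↔ ∀ i < n, f i = true := by
  induction n with
  | zero => simp [allTo]
  | succ n ih =>
    change (f n && allTo n f) = true ↔ _
    rw [Bool.and_eq_true, ih]
    constructor
    · rintro ⟨h1, h2⟩ i hi
      rcases Nat.lt_succ_iff_lt_or_eq.1 hi with h | h
      · exact h2 i h
      · rwa [h]
    · exact fun h => ⟨h n (Nat.lt_succ_self n), fun i hi => h i (Nat.lt_succ_of_lt hi)⟩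

/-- the arithmetic -/
structure Ar where
  /-- bits of an entry -/
  w : ℕ
  /-- bound for the entries -/
  m : ℕ
  /-- spreading the digits of an entry -/
  hat : ℕ → ℕ
  /-- reduction of a sum of products -/
  red : ℕ → ℕ
  /-- the involution -/
  cj : ℕ → ℕ

namespace Ar

/-- correctness of the arithmetic -/
structure Sound (a : Ar) {K : Type} [Field K] (ev : ℕ → K) : Prop where
  ev0 : ev 0 = 0
  ev1 : ev 1 = 1
  one_lt : 1 < a.m
  red_lt : ∀ S, a.red S < a.m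
  sum : ∀ n ≤ 1000, ∀ x y : ℕ → ℕ, (∀ i, x i < a.m) → (∀ i, y i < a.m) →
    ev (a.red (sumTo n fun i => Nat.mul (a.hat (x i)) (a.hat (y i)))) = ∑ i ∈ range n, ev (x i) * ev (y i)
  inj : ∀ S T, ev (a.red S) = ev (a.red T) → a.red S = a.red T

variable (a : Ar)

/-- an entry of a matrix -/
def ent (n N i j : ℕ) : ℕ := Nat.mod (Nat.shiftRight N (Nat.mul a.w (Nat.add (Nat.mul n i) j))) a.m

/-- a sum of products -/
def sp (n : ℕ) (x y : ℕ → ℕ) : ℕ := a.red (sumTo n fun i => Nat.mul (a.hat (x i)) (a.hat (y i)))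

/-- an entry of a product -/
def dot (n X Y i j : ℕ) : ℕ := a.sp n (fun k => a.ent n X i k) fun k => a.ent n Y k j

/-- `X * Y = W` -/
def mulOK (n X Y W : ℕ) : Bool := allTo n fun i => allTo n fun j => Nat.beq (a.dot n X Y i j) (a.ent n W i j)

/-- `X` is the matrix with the entries `g i j` -/
def entOK (n X : ℕ) (g : ℕ → ℕ → ℕ) : Bool := allTo n fun i => allTo n fun j => Nat.beq (a.ent n X i j) (g i j)

/-- the trace -/
def tr (n X : ℕ) : ℕ := a.sp n (fun i => a.ent n X i i) fun _ => 1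

/-- the trace of `E * X * Y`, `E` the projection to the coordinates with `c i` -/
def trm (n : ℕ) (c : ℕ → Bool) (X Y : ℕ) : ℕ := a.sp n (fun i => cond (c i) (a.dot n X Y i i) 0) fun _ => 1

/-- the matrix of a number -/
def M {K : Type} (ev : ℕ → K) (n N : ℕ) : Matrix (Fin n) (Fin n) K := Matrix.of fun i j => ev (a.ent n N i j)

variable {a} {K : Type} [Field K] {ev : ℕ → K}

omit [Field K] in
theorem M_apply (n N : ℕ) (i j : Fin n) : a.M ev n N i j = ev (a.ent n N i j) := rfl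

namespace Sound

variable (h : a.Sound ev)
include h

theorem ent_lt (n N i j : ℕ) : a.ent n N i j < a.m := Nat.mod_lt _ (by have := h.one_lt; omega)

theorem ev_sp {n : ℕ} (hn : n ≤ 1000) {x y : ℕ → ℕ} (hx : ∀ i, x i < a.m) (hy : ∀ i, y i < a.m) :
    ev (a.sp n x y) = ∑ i : Fin n, ev (x i) * ev (y i) := by
  rw [Fin.sum_univ_eq_sum_range (fun i => ev (x i) * ev (y i))]
  exact h.sum n hn x y hx hy

theorem ev_dot {n : ℕ} (hn : n ≤ 1000) (X Y : ℕ) (i j : Fin n) :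
    ev (a.dot n X Y i j) = (a.M ev n X * a.M ev n Y) i j := by
  rw [dot, h.ev_sp hn (fun _ => h.ent_lt _ _ _ _) fun _ => h.ent_lt _ _ _ _, Matrix.mul_apply]
  rfl

theorem mul_eq {n : ℕ} (hn : n ≤ 1000) {X Y W : ℕ} (H : a.mulOK n X Y W = true) :
    a.M ev n X * a.M ev n Y = a.M ev n W := by
  ext i j
  rw [← h.ev_dot hn, Nat.eq_of_beq_eq_true (allTo_iff.1 (allTo_iff.1 H i i.2) j j.2)]
  rfl

omit h [Field K] in
theorem ent_eq {n X : ℕ} {g : ℕ → ℕ → ℕ} (H : a.entOK n X g = true) (i j : Fin n) : a.M ev n X i j = ev (g i j) := by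
  rw [M_apply, Nat.eq_of_beq_eq_true (allTo_iff.1 (allTo_iff.1 H i i.2) j j.2)]

theorem ev_tr {n : ℕ} (hn : n ≤ 1000) (X : ℕ) : ev (a.tr n X) = (a.M ev n X).trace := by
  rw [tr, h.ev_sp hn (fun _ => h.ent_lt _ _ _ _) fun _ => h.one_lt]
  simp only [h.ev1, mul_one]
  rfl

theorem ev_trm {n : ℕ} (hn : n ≤ 1000) (c : ℕ → Bool) (X Y : ℕ) :
    ev (a.trm n c X Y) =
      (Matrix.diagonal (fun i : Fin n => if c i then (1 : K) else 0) * a.M ev n X * a.M ev n Y).trace := by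
  rw [trm, h.ev_sp hn (fun i => by
    cases c i
    · have := h.one_lt
      simp only [cond_false]
      omega
    · exact h.red_lt _) fun _ => h.one_lt, Matrix.mul_assoc, Matrix.trace]
  refine Finset.sum_congr rfl fun i _ => ?_
  rw [Matrix.diag_apply, Matrix.diagonal_mul, h.ev1, mul_one]
  cases c i
  · simp [h.ev0]
  · simp [h.ev_dot hn]

theorem sp_inj {n n' : ℕ} {x y x' y' : ℕ → ℕ} (H : ev (a.sp n x y) = ev (a.sp n' x' y')) :
    a.sp n x y = a.sp n' x' y' := h.inj _ _ H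

end Sound

end Ar

/-- prime fields -/
def arP (p : ℕ) : Ar where
  w := 2
  m := 4
  hat x := x
  red S := Nat.mod S p
  cj x := x

theorem cast_sumTo {K : Type} [Field K] (n : ℕ) (f : ℕ → ℕ) : ((sumTo n f : ℕ) : K) = ∑ i ∈ range n, (f i : K) := by
  induction n with
  | zero => simp [sumTo]
  | succ n ih => rw [sumTo_succ, Nat.cast_add, ih, Finset.sum_range_succ]

theorem arP_sound {K : Type} [Field K] {p : ℕ} [CharP K p] (h0 : 0 < p) (h4 : p ≤ 4) :
    (arP p).Sound (fun x : ℕ => (x : K)) where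
  ev0 := Nat.cast_zero
  ev1 := Nat.cast_one
  one_lt := (by decide : 1 < 4)
  red_lt S := (Nat.mod_lt S h0).trans_le h4
  sum n _ x y _ _ := by
    change ((_ % p : ℕ) : K) = _
    rw [← CharP.cast_eq_mod K p, cast_sumTo]
    exact Finset.sum_congr rfl fun i _ => Nat.cast_mul _ _
  inj S T H := by
    have h1 := (CharP.natCast_eq_natCast K p).1 H
    change S % p % p = T % p % p at h1
    change S % p = T % p
    simpa using h1

/-- fields with `p ^ 2` elements, `ω ^ 2 = c₁ ω + c₀` -/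
def arQ (p c₀ c₁ : ℕ) : Ar where
  w := 4
  m := 16
  hat x := Nat.add (Nat.mod x 4) (Nat.mul (Nat.div x 4) 65536)
  red S := Nat.add (Nat.mod (Nat.add (Nat.mod S 65536) (Nat.mul c₀ (Nat.div S 4294967296))) p)
    (Nat.mul 4 (Nat.mod (Nat.add (Nat.mod (Nat.div S 65536) 65536) (Nat.mul c₁ (Nat.div S 4294967296))) p))
  cj x := Nat.add (Nat.mod (Nat.add (Nat.mod x 4) (Nat.mul c₁ (Nat.div x 4))) p)
    (Nat.mul 4 (Nat.mod (Nat.mul (Nat.pred p) (Nat.div x 4)) p))

/-- the element with the code `x` -/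
def evQ {K : Type} [Field K] (ω : K) (x : ℕ) : K := ((x % 4 : ℕ) : K) + ((x / 4 : ℕ) : K) * ω

theorem evQ_add {K : Type} [Field K] (ω : K) {x : ℕ} (hx : x < 4) (y : ℕ) : evQ ω (x + 4 * y) = x + y * ω := by
  rw [evQ, show (x + 4 * y) % 4 = x by omega, show (x + 4 * y) / 4 = y by omega]

theorem arQ_sum {K : Type} [Field K] (ω : K) (n : ℕ) (x y : ℕ → ℕ) (hx : ∀ i, x i < 16) (hy : ∀ i, y i < 16) :
    ∃ S₀ S₁ S₂ : ℕ, S₀ ≤ 9 * n ∧ S₁ ≤ 18 * n ∧
      (sumTo n fun i => (x i % 4 + x i / 4 * 65536) * (y i % 4 + y i / 4 * 65536)) =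
        S₀ + 65536 * S₁ + 4294967296 * S₂ ∧
      ∑ i ∈ range n, evQ ω (x i) * evQ ω (y i) = S₀ + S₁ * ω + S₂ * ω ^ 2 := by
  induction n with
  | zero => exact ⟨0, 0, 0, le_rfl, le_rfl, rfl, by simp⟩
  | succ n ih =>
    obtain ⟨S₀, S₁, S₂, h0, h1, h2, h3⟩ := ih
    have a1 : x n % 4 ≤ 3 := by omega
    have a2 : y n % 4 ≤ 3 := by omega
    have a3 : x n / 4 ≤ 3 := by have := hx n; omega
    have a4 : y n / 4 ≤ 3 := by have := hy n; omega
    have b1 := Nat.mul_le_mul a1 a2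
    have b2 := Nat.mul_le_mul a1 a4
    have b3 := Nat.mul_le_mul a3 a2
    refine ⟨S₀ + x n % 4 * (y n % 4), S₁ + (x n % 4 * (y n / 4) + x n / 4 * (y n % 4)), S₂ + x n / 4 * (y n / 4),
      by omega, by omega, ?_, ?_⟩
    · rw [sumTo_succ, h2]
      ring
    · rw [Finset.sum_range_succ, h3, evQ, evQ]
      push_cast
      ring

theorem arQ_sound {K : Type} [Field K] {p c₀ c₁ : ℕ} [CharP K p] (h0 : 0 < p) (h4 : p ≤ 4) {ω : K}
    (hω : ω ^ 2 = c₁ * ω + c₀)
    (hi' : ∀ x y x' y' : ℕ, (x : K) + y * ω = x' + y' * ω → (y : K) = y') : (arQ p c₀ c₁).Sound (evQ ω) where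
  ev0 := by simp [evQ]
  ev1 := by simp [evQ]
  one_lt := (by decide : 1 < 16)
  red_lt S := by
    change _ % p + 4 * (_ % p) < 16
    have h1 := Nat.mod_lt (S % 65536 + c₀ * (S / 4294967296)) h0
    have h2 := Nat.mod_lt (S / 65536 % 65536 + c₁ * (S / 4294967296)) h0
    exact lt_of_lt_of_le (Nat.add_lt_add_of_lt_of_le (h1.trans_le h4)
      (Nat.mul_le_mul_left 4 (Nat.le_of_lt_succ (h2.trans_le h4)))) (by norm_num)
  sum n hn x y hx hy := by
    obtain ⟨S₀, S₁, S₂, h1, h2, h3, h5⟩ := arQ_sum ω n x y hx hy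
    obtain ⟨S, hS⟩ : ∃ S, S = S₀ + 65536 * S₁ + 4294967296 * S₂ := ⟨_, rfl⟩
    have e : (sumTo n fun i => Nat.mul ((arQ p c₀ c₁).hat (x i)) ((arQ p c₀ c₁).hat (y i))) = S := h3.trans hS.symm
    rw [e, h5]
    change evQ ω ((S % 65536 + c₀ * (S / 4294967296)) % p + 4 * ((S / 65536 % 65536 + c₁ * (S / 4294967296)) % p)) = _
    rw [evQ_add ω ((Nat.mod_lt _ h0).trans_le h4), ← CharP.cast_eq_mod K p, ← CharP.cast_eq_mod K p,
      show S % 65536 = S₀ by omega, show S / 4294967296 = S₂ by omega, show S / 65536 % 65536 = S₁ by omega, hω]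
    push_cast
    ring
  inj S T H := by
    change evQ ω (_ % p + 4 * (_ % p)) = evQ ω (_ % p + 4 * (_ % p)) at H
    change _ % p + 4 * (_ % p) = _ % p + 4 * (_ % p)
    rw [evQ_add ω ((Nat.mod_lt _ h0).trans_le h4), evQ_add ω ((Nat.mod_lt _ h0).trans_le h4)] at H
    have h1 := hi' _ _ _ _ H
    rw [h1, add_left_inj] at H
    have h2 := (CharP.natCast_eq_natCast K p).1 H
    have h3 := (CharP.natCast_eq_natCast K p).1 h1
    rw [Nat.ModEq, Nat.mod_mod, Nat.mod_mod] at h2 h3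
    rw [h2, h3]

theorem arQ_cj {K : Type} [Field K] {p c₀ c₁ : ℕ} [CharP K p] (h0 : 0 < p) (h4 : p ≤ 4) {ω : K} {τ : K →+* K}
    (hτ : τ ω = c₁ - ω) (x : ℕ) : evQ ω ((arQ p c₀ c₁).cj x) = τ (evQ ω x) := by
  change evQ ω ((x % 4 + c₁ * (x / 4)) % p + 4 * ((p - 1) * (x / 4) % p)) = _
  rw [evQ_add ω ((Nat.mod_lt _ h0).trans_le h4), ← CharP.cast_eq_mod K p, ← CharP.cast_eq_mod K p, evQ, map_add,
    map_mul, map_natCast, map_natCast, hτ, Nat.cast_mul (p - 1), Nat.cast_sub h0, CharP.cast_eq_zero K p]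
  push_cast
  ring

end Cfsg.Agent.SB.Idem
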