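import Cfsg.Agent.SB.Idem.Eng
import Cfsg.Agent.SB.Cl.Defs

/-!
# S5765, classical rows: adapted bases, enumerations of frames, small fields (helper96)
-/

set_option autoImplicit false

namespace Cfsg.Agent.SB.Idem

open Cfsg.Agent.DS.Cl Module

/-- the coordinate `i` is the coordinate number `dig ps i` of the block `dig C.bl i`, of dimension `d` -/
def Cert.shOK (C : Cert) (ps : ℕ) (d : ℕ → ℕ) : Bool :=
  (allTo C.n fun i => Nat.blt (dig C.bl i) C.t && Nat.blt (dig ps i) (d (dig C.bl i))) &&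
  (allTo C.n fun i => allTo C.n fun j =>
    !(Nat.beq (dig C.bl i) (dig C.bl j) && Nat.beq (dig ps i) (dig ps j)) || Nat.beq i j) &&
  allTo C.t fun b => allTo (d b) fun r => !allTo C.n fun i => !(Nat.beq (dig C.bl i) b && Nat.beq (dig ps i) r)

theorem Cert.of_shOK {C : Cert} {ps : ℕ} {d : ℕ → ℕ} (H : C.shOK ps d = true) :
    (∀ i < C.n, dig C.bl i < C.t ∧ dig ps i < d (dig C.bl i)) ∧
    (∀ i < C.n, ∀ j < C.n, dig C.bl i = dig C.bl j → dig ps i = dig ps j → i = j) ∧
    ∀ b < C.t, ∀ r < d b, ∃ i < C.n, dig C.bl i = b ∧ dig ps i = r := by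
  simp only [Cert.shOK, Bool.and_eq_true] at H
  obtain ⟨⟨h1, h2⟩, h3⟩ := H
  refine ⟨fun i hi => ?_, fun i hi j hj e1 e2 => ?_, fun b hb r hr => ?_⟩
  · simpa using allTo_iff.1 h1 i hi
  · simpa [e1, e2] using allTo_iff.1 (allTo_iff.1 h2 i hi) j hj
  · have h4 := allTo_iff.1 (allTo_iff.1 h3 b hb) r hr
    by_contra hcon
    push Not at hcon
    rw [allTo_iff.2 fun i hi => by
      rw [Bool.not_eq_true', Bool.eq_false_iff]
      simpa using hcon i hi] at h4
    exact absurd h4 (by decide)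

section basis

variable {K V : Type} [Field K] [AddCommGroup V] [Module K V]

/-- `v 0, …, v (d - 1)` is a basis of the image of the idempotent `E` -/
structure BB (E : End K V) (d : ℕ) (v : ℕ → V) : Prop where
  mem : ∀ r < d, E (v r) = v r
  li : LinearIndependent K fun r : Fin d => v r
  rk : finrank K (LinearMap.range E) = d

theorem BB.span [FiniteDimensional K V] {E : End K V} {d : ℕ} {v : ℕ → V} (h : BB E d v) :
    Submodule.span K (Set.range fun r : Fin d => v r) = LinearMap.range E := by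
  refine Submodule.eq_of_le_of_finrank_eq (Submodule.span_le.2 ?_) ?_
  · rintro _ ⟨r, rfl⟩
    exact ⟨_, h.mem r r.2⟩
  · rw [finrank_span_eq_card h.li, Fintype.card_fin, h.rk]

theorem exists_BB [FiniteDimensional K V] {E : End K V} (hE : E * E = E) {d : ℕ}
    (hd : finrank K (LinearMap.range E) = d) : ∃ v, BB E d v := by
  let c := Module.finBasisOfFinrankEq K (LinearMap.range E) hd
  refine ⟨fun r => if h : r < d then c ⟨r, h⟩ else 0, fun r hr => ?_, ?_, hd⟩
  · obtain ⟨x, hx⟩ := (c ⟨r, hr⟩).2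
    rw [dif_pos hr, ← hx, ← End.mul_apply, hE]
  · simp only [Fin.is_lt, dif_pos]
    exact c.linearIndependent.map' (LinearMap.range E).subtype (Submodule.ker_subtype _)

theorem exists_basis [FiniteDimensional K V] {C : Cert} {ps : ℕ} {d : ℕ → ℕ} (H : C.shOK ps d = true)
    (E : ℕ → End K V) (ho : ∀ b < C.t, ∀ c < C.t, b ≠ c → E b * E c = 0) (hs : ∑ b ∈ Finset.range C.t, E b = 1)
    (v : ℕ → ℕ → V) (hv : ∀ b < C.t, BB (E b) (d b) (v b)) :
    ∃ c : Basis (Fin C.n) K V, (∀ i, c i = v (dig C.bl i) (dig ps i)) ∧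
      ∀ b < C.t, LinearMap.toMatrix c c (E b) = C.E K b := by
  obtain ⟨h1, h2, h3⟩ := Cert.of_shOK H
  obtain ⟨c, hc⟩ : ∃ c : Fin C.n → V, ∀ i, c i = v (dig C.bl i) (dig ps i) := ⟨_, fun _ => rfl⟩
  have h4 : ∀ b < C.t, ∀ i, E b (c i) = if dig C.bl i = b then c i else 0 := by
    intro b hb i
    have h5 := (hv _ (h1 i i.2).1).mem _ (h1 i i.2).2
    rw [← hc] at h5
    split_ifs with h6
    · rw [← h6, h5]
    · rw [← h5, ← End.mul_apply, ho b hb _ (h1 i i.2).1 (Ne.symm h6), LinearMap.zero_apply]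
  have hli : LinearIndependent K c := by
    rw [Fintype.linearIndependent_iff]
    intro g hg i₀
    obtain ⟨b, hb⟩ : ∃ b, b = dig C.bl i₀ := ⟨_, rfl⟩
    have hbt : b < C.t := hb ▸ (h1 i₀ i₀.2).1
    have h5 := Fintype.linearIndependent_iff.1 (hv b hbt).li
      (fun r => ∑ i : Fin C.n, if dig C.bl i = b ∧ dig ps i = r then g i else 0) (by
        have h6 := congrArg (E b) hg
        rw [map_sum, map_zero] at h6
        rw [← h6]
        simp only [Finset.sum_smul]
        rw [Finset.sum_comm]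
        refine Finset.sum_congr rfl fun i _ => ?_
        rw [map_smul, h4 b hbt]
        split_ifs with h7
        · rw [Finset.sum_eq_single (⟨dig ps i, h7 ▸ (h1 i i.2).2⟩ : Fin (d b))]
          · rw [if_pos ⟨h7, rfl⟩, hc]
            exact congrArg (fun b => g i • v b (dig ps i)) h7.symm
          · intro r _ hr
            rw [if_neg fun h8 => hr (Fin.ext h8.2.symm), zero_smul]
          · simp
        · simp [h7]) ⟨dig ps i₀, hb ▸ (h1 i₀ i₀.2).2⟩
    rwa [Finset.sum_eq_single i₀, if_pos ⟨hb.symm, rfl⟩] at h5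
    · intro i _ hi
      exact if_neg fun h6 => hi (Fin.ext (h2 i i.2 i₀ i₀.2 (h6.1.trans hb) h6.2))
    · simp
  have hsp : ⊤ ≤ Submodule.span K (Set.range c) := by
    intro x _
    have h5 : x = ∑ b ∈ Finset.range C.t, E b x := by rw [← LinearMap.sum_apply, hs, End.one_apply]
    rw [h5]
    refine Submodule.sum_mem _ fun b hb => ?_
    have hb' := Finset.mem_range.1 hb
    have h6 : E b x ∈ LinearMap.range (E b) := ⟨x, rfl⟩
    rw [← (hv b hb').span] at h6
    refine Submodule.span_mono ?_ h6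
    rintro _ ⟨r, rfl⟩
    obtain ⟨i, hi, e1, e2⟩ := h3 b hb' r r.2
    exact ⟨⟨i, hi⟩, by rw [hc, e1, e2]⟩
  obtain ⟨c', hc'⟩ : ∃ c' : Basis (Fin C.n) K V, ∀ i, c' i = c i := ⟨Basis.mk hli hsp, Basis.mk_apply hli hsp⟩
  refine ⟨c', fun i => by rw [hc', hc], fun b hb => ?_⟩
  ext i j
  have h5 := h4 b hb j
  rw [← hc' j] at h5
  rw [LinearMap.toMatrix_apply, h5, Cert.E, Matrix.diagonal_apply, Cert.inB]
  by_cases hij : i = j
  · subst hij
    by_cases h6 : dig C.bl i = b <;> simp [h6]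
  · by_cases h6 : dig C.bl j = b <;> simp [h6, hij]

theorem quad_ext {n : ℕ} (c : Basis (Fin n) K V) {Q Q' : QuadraticForm K V} (h1 : ∀ i, Q (c i) = Q' (c i))
    (h2 : ∀ i j, i ≠ j → QuadraticMap.polar Q (c i) (c j) = QuadraticMap.polar Q' (c i) (c j)) : Q = Q' := by
  rw [← Q.toQuadraticMap_toBilin c, ← Q'.toQuadraticMap_toBilin c]
  congr 1
  refine LinearMap.ext_basis c c fun i j => ?_
  rw [QuadraticMap.toBilin_apply, QuadraticMap.toBilin_apply, h1]
  split_ifs with h3 h4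
  · rfl
  · exact h2 i j h3
  · rfl

end basis

section frames

variable {A : Type}

/-- an enumeration of `D` -/
structure En (D : Finset A) (t : ℕ) (e : ℕ → A) : Prop where
  mem : ∀ b < t, e b ∈ D
  surj : ∀ x ∈ D, ∃ b < t, x = e b
  inj : ∀ b < t, ∀ c < t, e b = e c → b = c

theorem en_of_card [Zero A] {D : Finset A} {t : ℕ} (h : D.card = t) : ∃ e, En D t e := by
  subst h
  refine ⟨fun b => if h : b < D.card then D.equivFin.symm ⟨b, h⟩ else 0, fun b hb => ?_, fun x hx => ?_,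
    fun b hb c hc e => ?_⟩
  · rw [dif_pos hb]
    exact (D.equivFin.symm ⟨b, hb⟩).2
  · exact ⟨D.equivFin ⟨x, hx⟩, (D.equivFin ⟨x, hx⟩).2, by simp⟩
  · simp only [dif_pos hb, dif_pos hc] at e
    exact congrArg Fin.val (D.equivFin.symm.injective (Subtype.ext e))

theorem en_of_two {r : A → ℕ} {D : Finset A} {a b : ℕ} (h : Cl.Two r D a b) :
    ∃ e, En D 2 e ∧ ∀ c < 2, r (e c) = cond (Nat.beq c 0) a b := by
  classical
  obtain ⟨h1, e, he, e', he', hne, h2, h3⟩ := h
  have h4 : D = {e, e'} := (Finset.eq_of_subset_of_card_le (by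
    intro x hx
    rcases Finset.mem_insert.1 hx with rfl | h5
    · exact he
    · rwa [Finset.mem_singleton.1 h5]) (by rw [h1, Finset.card_pair hne])).symm
  refine ⟨fun c => cond (Nat.beq c 0) e e', ⟨fun c hc => ?_, fun x hx => ?_, fun c hc c' hc' h5 => ?_⟩, fun c hc => ?_⟩
  · interval_cases c
    exacts [he, he']
  · rw [h4, Finset.mem_insert, Finset.mem_singleton] at hx
    rcases hx with rfl | rfl
    exacts [⟨0, by norm_num, rfl⟩, ⟨1, by norm_num, rfl⟩]
  · interval_cases c <;> interval_cases c'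
    exacts [rfl, absurd h5 hne, absurd h5.symm hne, rfl]
  · interval_cases c
    exacts [h2, h3]

variable [Ring A] [StarRing A] {D : Finset A} {t : ℕ} {e : ℕ → A}

theorem En.sum (h : En D t e) (hD : Fr D) : ∑ b ∈ Finset.range t, e b = 1 := by
  rw [← hD.sum]
  exact Finset.sum_bij (fun b _ => e b) (fun b hb => h.mem b (Finset.mem_range.1 hb))
    (fun b hb c hc => h.inj b (Finset.mem_range.1 hb) c (Finset.mem_range.1 hc))
    (fun x hx => by
      obtain ⟨b, hb, rfl⟩ := h.surj x hx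
      exact ⟨b, Finset.mem_range.2 hb, rfl⟩) fun _ _ => rfl

theorem En.orth (h : En D t e) (hD : Fr D) {b c : ℕ} (hb : b < t) (hc : c < t) (hbc : b ≠ c) : e b * e c = 0 :=
  hD.orth _ (h.mem b hb) _ (h.mem c hc) fun h1 => hbc (h.inj b hb c hc h1)

omit [StarRing A] in
theorem En.inv (h : En D t e) {S : Subgroup (RingAut A)} (hS : Inv S D) : ∀ s ∈ S, ∀ b < t, ∃ c < t, s (e b) = e c :=
  fun s hs b hb => h.surj _ (hS s hs _ (h.mem b hb))

theorem htr_of [Finite A] (hA : SS A) {K : Type} [Field K] {n : ℕ} (π : A →+* Matrix (Fin n) (Fin n) K)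
    (κ : RingAut A) (w : A) (h1 : ∀ s : RingAut A, s w = w → s ∈ Lin A) (h2 : ∀ s ∈ SAut A, s w = w ∨ s w = star w)
    (h3 : κ (star w) = w) (h4 : ∀ x, (π (κ x)).trace = (π (star x)).trace) :
    ∀ s ∈ SAut A, s ∈ Lin A ∨ (true = true ∧ ∀ x, (π (s x)).trace = (π (star x)).trace) := by
  intro s hs
  rcases h2 s hs with h | h
  · exact Or.inl (h1 s h)
  · refine Or.inr ⟨rfl, fun x => ?_⟩
    obtain ⟨v, hv⟩ := hA.sn (h1 (κ * s) (by rw [ra_mul, h, h3]))
    rw [← trace_cj π v (star x), ← hv, ra_mul, h4, ← hs, star_star]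

end frames

section fields

variable {K : Type} [Field K] [Finite K]

theorem prime_field {p : ℕ} (hp : p.Prime) (hK : Nat.card K = p) : CharP K p ∧ ∀ c : K, ∃ k : ℕ, c = k := by
  have := Fintype.ofFinite K
  have := Fact.mk hp
  rw [Nat.card_eq_fintype_card] at hK
  have := charP_of_card_eq_prime hK
  refine ⟨this, fun c => ?_⟩
  obtain ⟨z, rfl⟩ := (ZMod.ringEquiv K hK).surjective c
  exact ⟨z.val, by rw [← map_natCast (ZMod.ringEquiv K hK), ZMod.natCast_zmod_val]⟩

theorem card_le_three (hK : Nat.card K ≤ 3) : Nat.card K = 2 ∨ Nat.card K = 3 := by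
  have : 1 < Nat.card K := Finite.one_lt_card
  omega

theorem quad_field_aux {p c₀ c₁ : ℕ} [Fact p.Prime] [CharP K p] (h4 : p ≤ 4) (hK : Nat.card K = p ^ 2) {ω : K}
    (hω : ω ^ 2 = c₁ * ω + c₀) (hirr : ∀ z : ZMod p, z ^ 2 ≠ c₁ * z + c₀) :
    (arQ p c₀ c₁).Sound (evQ ω) ∧ ∀ c : K, ∃ x y : ℕ, c = x + y * ω := by
  have hp : p.Prime := Fact.out
  let φ := ZMod.castHom (dvd_refl p) K
  have h1 : ∀ x y x' y' : ZMod p, φ x + φ y * ω = φ x' + φ y' * ω → y = y' := by
    intro x y x' y' h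
    by_contra hne
    have h2 : φ (y - y') ≠ 0 := fun h2 => hne (sub_eq_zero.1 (φ.injective (h2.trans (map_zero φ).symm)))
    have h3 : ω = φ ((x' - x) / (y - y')) := by
      rw [map_div₀, eq_div_iff h2, map_sub, map_sub]
      linear_combination h
    refine hirr ((x' - x) / (y - y')) (φ.injective ?_)
    rw [map_pow, map_add, map_mul, map_natCast, map_natCast, ← h3, hω]
  refine ⟨arQ_sound hp.pos h4 hω fun x y x' y' h => ?_, fun c => ?_⟩
  · have h2 := congrArg φ (h1 x y x' y' (by simpa only [map_natCast] using h))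
    simpa only [map_natCast] using h2
  · have h2 : Function.Injective fun z : ZMod p × ZMod p => φ z.1 + φ z.2 * ω := by
      rintro ⟨x, y⟩ ⟨x', y'⟩ h
      obtain rfl := h1 x y x' y' h
      exact Prod.ext (φ.injective (add_right_cancel h)) rfl
    obtain ⟨⟨x, y⟩, rfl⟩ := (h2.bijective_of_nat_card_le (by rw [hK, Nat.card_prod, Nat.card_zmod, sq])).2 c
    exact ⟨x.val, y.val, by rw [← map_natCast φ, ← map_natCast φ, ZMod.natCast_zmod_val, ZMod.natCast_zmod_val]⟩

theorem field_four (hK : Nat.card K = 4) : CharP K 2 ∧ ∃ ω : K, ω ^ 2 = (1 : ℕ) * ω + (1 : ℕ) ∧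
    (arQ 2 1 1).Sound (evQ ω) ∧ ∀ c : K, ∃ x y : ℕ, c = x + y * ω := by
  classical
  have := Fintype.ofFinite K
  have hK' : Fintype.card K = 2 ^ 2 := by rw [← Nat.card_eq_fintype_card, hK]; rfl
  have := charP_of_card_eq_prime_pow hK'
  obtain ⟨ω, -, hω⟩ : ∃ ω ∈ (Finset.univ : Finset K), ω ∉ ({0, 1} : Finset K) :=
    Finset.exists_mem_notMem_of_card_lt_card (Finset.card_le_two.trans_lt (by rw [Finset.card_univ, hK']; norm_num))
  rw [Finset.mem_insert, Finset.mem_singleton, not_or] at hω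
  have h1 := FiniteField.pow_card ω
  rw [hK'] at h1
  have h2 : (2 : K) = 0 := CharP.cast_eq_zero K 2
  have h3 : ω ^ 2 = (1 : ℕ) * ω + (1 : ℕ) := by
    have h4 : ω * ((ω - 1) * (ω ^ 2 + ω + 1)) = 0 := by linear_combination h1
    have h5 := (mul_eq_zero.1 ((mul_eq_zero.1 h4).resolve_left hω.1)).resolve_left (sub_ne_zero.2 hω.2)
    push_cast
    linear_combination h5 - (ω + 1) * h2
  exact ⟨this, ω, h3, quad_field_aux (by norm_num) hK h3 (by decide)⟩

theorem field_nine (hK : Nat.card K = 9) : CharP K 3 ∧ ∃ ω : K, ω ^ 2 = (0 : ℕ) * ω + (2 : ℕ) ∧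
    (arQ 3 2 0).Sound (evQ ω) ∧ ∀ c : K, ∃ x y : ℕ, c = x + y * ω := by
  have := Fintype.ofFinite K
  have hK' : Fintype.card K = 3 ^ 2 := by rw [← Nat.card_eq_fintype_card, hK]; rfl
  have := charP_of_card_eq_prime_pow hK'
  obtain ⟨ω, hω⟩ := (FiniteField.isSquare_neg_one_iff (F := K)).2 (by rw [hK']; norm_num)
  have h2 : (3 : K) = 0 := CharP.cast_eq_zero K 3
  have h3 : ω ^ 2 = (0 : ℕ) * ω + (2 : ℕ) := by
    push_cast
    linear_combination -hω - h2
  exact ⟨this, ω, h3, quad_field_aux (by norm_num) hK h3 (by decide)⟩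

end fields

end Cfsg.Agent.SB.Idem
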