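import Cfsg.Agent.SB.Idem.Ar

/-!
# S5765, classical rows: certificates for four frames (helper96)
-/

set_option autoImplicit false

namespace Cfsg.Agent.SB.Idem

open Finset Ar

/-- a digit in base four -/
def dig (m i : ℕ) : ℕ := Nat.mod (Nat.shiftRight m (Nat.mul 2 i)) 4

/-- an entry of a table -/
def tab (T a b c : ℕ) : ℕ := Nat.mod (Nat.shiftRight T (Nat.mul 4 (Nat.add a (Nat.add (Nat.mul 4 b) (Nat.mul 16 c))))) 16

/-- the permutations of `0, 1, 2, 3` fixing the numbers `≥ t` -/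
def perms (t : ℕ) : List ℕ :=
  cond (Nat.beq t 2) [228, 225] (cond (Nat.beq t 3) [228, 225, 216, 210, 201, 198]
    [228, 225, 216, 210, 201, 198, 180, 177, 156, 147, 141, 135, 120, 114, 108, 99, 78, 75, 57, 54, 45, 39, 30, 27])

theorem perms_aux : ∀ t ∈ [2, 3, 4], ∀ a b c d : Fin 4, a ≠ b → a ≠ c → a ≠ d → b ≠ c → b ≠ d → c ≠ d →
    (t ≤ 2 → c = 2) → (t ≤ 3 → d = 3) → a.1 + 4 * b.1 + 16 * c.1 + 64 * d.1 ∈ perms t := by
  decide +kernel

theorem dig_aux : ∀ a b c d : Fin 4, ∀ i : Fin 4, dig (a.1 + 4 * b.1 + 16 * c.1 + 64 * d.1) i = (![a, b, c, d] i).1 := by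
  decide +kernel

theorem exists_perm {t : ℕ} (h2 : 2 ≤ t) (h4 : t ≤ 4) (σ : ℕ → ℕ) (h : ∀ b < t, σ b < t)
    (hi : ∀ b < t, ∀ c < t, σ b = σ c → b = c) : ∃ s ∈ perms t, s < 256 ∧ ∀ b < t, dig s b = σ b := by
  let ρ : Fin 4 → Fin 4 := fun i => if hi : i.1 < t then ⟨σ i, (h i hi).trans_le h4⟩ else i
  have hρ : ∀ i j, i ≠ j → ρ i ≠ ρ j := by
    intro i j hij e
    have e' := congrArg Fin.val e
    simp only [ρ] at e'
    split_ifs at e' with h1 h2 h2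
    · exact hij (Fin.ext (hi _ h1 _ h2 e'))
    · have := h i h1
      simp only at e'
      omega
    · have := h j h2
      simp only at e'
      omega
    · exact hij (Fin.ext e')
  refine ⟨_, perms_aux t (by simp; omega) (ρ 0) (ρ 1) (ρ 2) (ρ 3) (hρ _ _ (by decide)) (hρ _ _ (by decide))
    (hρ _ _ (by decide)) (hρ _ _ (by decide)) (hρ _ _ (by decide)) (hρ _ _ (by decide))
    (fun h1 => dif_neg (by simp; omega)) (fun h1 => dif_neg (by simp; omega)), by omega, fun b hb => ?_⟩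
  have h1 := dig_aux (ρ 0) (ρ 1) (ρ 2) (ρ 3) ⟨b, hb.trans_le h4⟩
  have h3 : ∀ i : Fin 4, ![ρ 0, ρ 1, ρ 2, ρ 3] i = ρ i := fun i => by fin_cases i <;> rfl
  rw [h3] at h1
  rw [h1]
  simp only [ρ, hb, dif_pos]

/-- four permutations in one number -/
def code (s₀ s₁ s₂ s₃ : ℕ) : ℕ := Nat.add s₀ (Nat.add (Nat.mul 256 s₁) (Nat.add (Nat.mul 65536 s₂) (Nat.mul 16777216 s₃)))

theorem dig_code {s : ℕ → ℕ} (h : ∀ k < 4, s k < 256) {k b : ℕ} (hk : k < 4) (hb : b < 4) :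
    dig (code (s 0) (s 1) (s 2) (s 3)) (4 * k + b) = dig (s k) b := by
  have h0 := h 0 (by norm_num)
  have h1 := h 1 (by norm_num)
  have h2 := h 2 (by norm_num)
  have h3 := h 3 (by norm_num)
  change (s 0 + (256 * s 1 + (65536 * s 2 + 16777216 * s 3))) >>> (2 * (4 * k + b)) % 4 = s k >>> (2 * b) % 4
  simp only [Nat.shiftRight_eq_div_pow]
  interval_cases k <;> interval_cases b <;> norm_num <;> omega

/-- invariance of a table -/
def okT (t T T' s₀ s₁ s₂ : ℕ) : Bool :=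
  allTo t fun a => allTo t fun b => allTo t fun c => Nat.beq (tab T (dig s₀ a) (dig s₁ b) (dig s₂ c)) (tab T' a b c)

/-- the search through all permutations -/
def search (t T₂ T₂' T₃ T₃' : ℕ) (fin : ℕ → Bool) : Bool :=
  (perms t).all fun s₀ => (perms t).all fun s₁ => (perms t).all fun s₂ => !okT t T₂ T₂' s₀ s₁ s₂ ||
    (perms t).all fun s₃ => !okT t T₃ T₃' s₀ s₁ s₃ || fin (code s₀ s₁ s₂ s₃)

theorem search_sound {t T₂ T₂' T₃ T₃' : ℕ} {fin : ℕ → Bool} (H : search t T₂ T₂' T₃ T₃' fin = true)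
    {s : ℕ → ℕ} (hs : ∀ k < 4, s k ∈ perms t)
    (h2 : ∀ a < t, ∀ b < t, ∀ c < t, tab T₂ (dig (s 0) a) (dig (s 1) b) (dig (s 2) c) = tab T₂' a b c)
    (h3 : ∀ a < t, ∀ b < t, ∀ c < t, tab T₃ (dig (s 0) a) (dig (s 1) b) (dig (s 3) c) = tab T₃' a b c) :
    fin (code (s 0) (s 1) (s 2) (s 3)) = true := by
  have a2 : okT t T₂ T₂' (s 0) (s 1) (s 2) = true :=
    allTo_iff.2 fun a ha => allTo_iff.2 fun b hb => allTo_iff.2 fun c hc => Nat.beq_eq ▸ h2 a ha b hb c hc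
  have a3 : okT t T₃ T₃' (s 0) (s 1) (s 3) = true :=
    allTo_iff.2 fun a ha => allTo_iff.2 fun b hb => allTo_iff.2 fun c hc => Nat.beq_eq ▸ h3 a ha b hb c hc
  have h4 := List.all_eq_true.1 (List.all_eq_true.1 (List.all_eq_true.1 H _ (hs 0 (by norm_num))) _
    (hs 1 (by norm_num))) _ (hs 2 (by norm_num))
  rw [a2] at h4
  have h5 := List.all_eq_true.1 h4 _ (hs 3 (by norm_num))
  rwa [a3] at h5

/-- a product of letters, with the partial products `Ns` -/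
def chainOK (a : Ar) (n t : ℕ) (g : ℕ → ℕ → ℕ) (w : List (ℕ × ℕ)) : ℕ → List ℕ → Bool :=
  List.rec (fun _ _ => true) (fun l _ ih cur Ns => Nat.blt l.1 4 && Nat.blt l.2 t &&
    a.mulOK n cur (g l.1 l.2) (Ns.headD 0) && ih (Ns.headD 0) Ns.tail) w

/-- the product -/
def chainEnd (w : List (ℕ × ℕ)) : ℕ → List ℕ → ℕ :=
  List.rec (fun cur _ => cur) (fun _ _ ih _ Ns => ih (Ns.headD 0) Ns.tail) w

theorem chain_sound {a : Ar} {K : Type} [Field K] {ev : ℕ → K} (h : a.Sound ev) {n t : ℕ} (hn : n ≤ 1000)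
    {g : ℕ → ℕ → ℕ} (w : List (ℕ × ℕ)) (cur : ℕ) (Ns : List ℕ) (H : chainOK a n t g w cur Ns = true) :
    (∀ l ∈ w, l.1 < 4 ∧ l.2 < t) ∧
      a.M ev n (chainEnd w cur Ns) = a.M ev n cur * (w.map fun l => a.M ev n (g l.1 l.2)).prod := by
  induction w generalizing cur Ns with
  | nil => exact ⟨by simp, by simp [chainEnd]⟩
  | cons l w ih =>
    change (Nat.blt l.1 4 && Nat.blt l.2 t && a.mulOK n cur (g l.1 l.2) (Ns.headD 0) &&
      chainOK a n t g w (Ns.headD 0) Ns.tail) = true at H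
    simp only [Bool.and_eq_true, Nat.blt_eq] at H
    obtain ⟨⟨⟨h1, h2⟩, h3⟩, h4⟩ := H
    obtain ⟨h5, h6⟩ := ih _ _ h4
    refine ⟨fun l' hl' => ?_, ?_⟩
    · rcases List.mem_cons.1 hl' with rfl | h7
      exacts [⟨h1, h2⟩, h5 l' h7]
    · change a.M ev n (chainEnd w (Ns.headD 0) Ns.tail) = _
      rw [h6, List.map_cons, List.prod_cons, ← Matrix.mul_assoc, h.mul_eq hn h3]

/-- a certificate -/
structure Cert where
  /-- the dimension -/
  n : ℕ
  /-- the number of blocks -/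
  t : ℕ
  /-- the blocks of the coordinates -/
  bl : ℕ
  /-- the identity matrix -/
  one : ℕ
  /-- three isometries -/
  X : List ℕ
  /-- products -/
  XY : List ℕ
  /-- products -/
  YX : List ℕ
  /-- commutators -/
  Z : List ℕ
  /-- the idempotents of the four frames -/
  f : List (List ℕ)
  /-- traces -/
  T₂ : ℕ
  /-- traces -/
  T₂' : ℕ
  /-- traces -/
  T₃ : ℕ
  /-- traces -/
  T₃' : ℕ
  /-- words excluding further permutations -/
  ex : List (ℕ × List (ℕ × ℕ) × List ℕ × List ℕ)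
  /-- a word of rank one -/
  w : List (ℕ × ℕ)
  /-- its partial products -/
  ws : List ℕ
  /-- its row -/
  φ : ℕ
  /-- its column -/
  j₀ : ℕ
  /-- a basis obtained by spinning -/
  P : ℕ
  /-- the inverse matrix -/
  Q : ℕ
  /-- the way the basis is obtained -/
  tree : List (ℕ × ℕ × ℕ)

namespace Cert

variable (a : Ar) (C : Cert)

/-- the isometries -/
def x (k : ℕ) : ℕ := C.X.getD k 0

/-- the idempotents -/
def ff (k b : ℕ) : ℕ := (C.f.getD k []).getD b 0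

/-- the blocks -/
def inB (b i : ℕ) : Bool := Nat.beq (dig C.bl i) b

/-- sizes, the identity matrix, the first frame -/
def ok₀ : Bool := Nat.ble C.n 1000 && Nat.ble 2 C.t && Nat.ble C.t 4 &&
  a.entOK C.n C.one (fun i j => cond (Nat.beq i j) 1 0) &&
  allTo C.t fun b => a.entOK C.n (C.ff 0 b) fun i j => cond (Nat.beq i j && C.inB b i) 1 0

/-- the commutators -/
def ok₁ : Bool := allTo 3 fun k => a.mulOK C.n (C.x k) (C.x ((k + 1) % 3)) (C.XY.getD k 0) &&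
  a.mulOK C.n (C.x ((k + 1) % 3)) (C.x k) (C.YX.getD k 0) &&
  a.mulOK C.n (C.Z.getD k 0) (C.YX.getD k 0) (C.XY.getD k 0)

/-- the other frames -/
def ok₂ : Bool := allTo 3 fun k => allTo C.t fun b => allTo C.n fun i => allTo C.n fun j =>
  Nat.beq (a.dot C.n (C.ff (k + 1) b) (C.Z.getD k 0) i j) (cond (C.inB b j) (a.ent C.n (C.Z.getD k 0) i j) 0)

/-- a table of traces -/
def tabOK (T : ℕ) (g g' : ℕ → ℕ → ℕ) : Bool := allTo C.t fun b₀ => allTo C.t fun b => allTo C.t fun c =>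
  Nat.beq (tab T b₀ b c) (a.trm C.n (C.inB b₀) (g b c) (g' b c))

/-- the permutations -/
def ok₃ (sw : Bool) : Bool :=
  C.tabOK a C.T₂ (fun b _ => C.ff 1 b) (fun _ c => C.ff 2 c) && C.tabOK a C.T₃ (fun b _ => C.ff 1 b) (fun _ c => C.ff 3 c) &&
  search C.t C.T₂ C.T₂ C.T₃ C.T₃ (fun s => Nat.beq s 3840206052 || C.ex.any fun e => Nat.beq s e.1) &&
  (C.ex.all fun e => chainOK a C.n C.t C.ff e.2.1 C.one e.2.2.1 &&
    chainOK a C.n C.t (fun k b => C.ff k (dig e.1 (4 * k + b))) e.2.1 C.one e.2.2.2 &&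
    !Nat.beq (a.tr C.n (chainEnd e.2.1 C.one e.2.2.1)) (a.tr C.n (chainEnd e.2.1 C.one e.2.2.2))) &&
  (!sw || (C.tabOK a C.T₂' (fun _ c => C.ff 2 c) (fun b _ => C.ff 1 b) &&
    C.tabOK a C.T₃' (fun _ c => C.ff 3 c) (fun b _ => C.ff 1 b) && search C.t C.T₂ C.T₂' C.T₃ C.T₃' fun _ => false))

/-- the commutant -/
def ok₄ : Bool := chainOK a C.n C.t C.ff C.w C.one C.ws && Nat.blt C.j₀ C.n && Nat.beq (a.ent C.n C.φ 0 C.j₀) 1 &&
  a.entOK C.n (chainEnd C.w C.one C.ws) (fun i j => a.sp 1 (fun _ => a.ent C.n C.P i 0) fun _ => a.ent C.n C.φ 0 j) &&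
  a.mulOK C.n C.P C.Q C.one &&
  allTo C.n fun j => Nat.beq j 0 || (Nat.blt (C.tree.getD j (0, 0, 0)).1 j && Nat.blt (C.tree.getD j (0, 0, 0)).2.1 4 &&
    Nat.blt (C.tree.getD j (0, 0, 0)).2.2 C.t && allTo C.n fun i => Nat.beq (a.dot C.n
      (C.ff (C.tree.getD j (0, 0, 0)).2.1 (C.tree.getD j (0, 0, 0)).2.2) C.P i (C.tree.getD j (0, 0, 0)).1)
      (a.ent C.n C.P i j))

/-- the projection to a block -/
def E (K : Type) [Field K] (b : ℕ) : Matrix (Fin C.n) (Fin C.n) K :=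
  Matrix.diagonal fun i => if C.inB b i then 1 else 0

variable {a C} {K : Type} [Field K] {ev : ℕ → K}

theorem of_ok₀ (h : a.Sound ev) (H : C.ok₀ a = true) : C.n ≤ 1000 ∧ 2 ≤ C.t ∧ C.t ≤ 4 ∧ a.M ev C.n C.one = 1 ∧
    ∀ b < C.t, a.M ev C.n (C.ff 0 b) = C.E K b := by
  simp only [ok₀, Bool.and_eq_true, Nat.ble_eq] at H
  obtain ⟨⟨⟨⟨h1, h2⟩, h3⟩, h4⟩, h5⟩ := H
  refine ⟨h1, h2, h3, ?_, fun b hb => ?_⟩
  · ext i j
    rw [Sound.ent_eq h4, Matrix.one_apply]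
    by_cases hij : i = j
    · simp [hij, h.ev1]
    · have e : Nat.beq i j = false := Bool.eq_false_iff.2 fun e => hij (Fin.ext (Nat.eq_of_beq_eq_true e))
      simp [hij, e, h.ev0]
  · ext i j
    rw [Sound.ent_eq (allTo_iff.1 h5 b hb), E, Matrix.diagonal_apply]
    by_cases hij : i = j
    · subst hij
      cases C.inB b i <;> simp [h.ev0, h.ev1]
    · have e : Nat.beq i j = false := Bool.eq_false_iff.2 fun e => hij (Fin.ext (Nat.eq_of_beq_eq_true e))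
      simp [hij, e, h.ev0]

theorem of_ok₂ (h : a.Sound ev) (hn : C.n ≤ 1000) (H : C.ok₂ a = true) {k b : ℕ} (hk : k < 3) (hb : b < C.t) :
    a.M ev C.n (C.ff (k + 1) b) * a.M ev C.n (C.Z.getD k 0) = a.M ev C.n (C.Z.getD k 0) * C.E K b := by
  ext i j
  have h1 := Nat.eq_of_beq_eq_true (allTo_iff.1 (allTo_iff.1 (allTo_iff.1 (allTo_iff.1 H k hk) b hb) i i.2) j j.2)
  rw [← h.ev_dot hn, h1, E, Matrix.mul_diagonal]
  cases C.inB b j
  · simp [h.ev0]
  · simp [M_apply]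

theorem of_tabOK (h : a.Sound ev) (hn : C.n ≤ 1000) {T T' : ℕ} {g₁ g₂ g₁' g₂' : ℕ → ℕ → ℕ}
    (H : C.tabOK a T g₁ g₂ = true) (H' : C.tabOK a T' g₁' g₂' = true) {b₀ b c b₀' b' c' : ℕ}
    (h0 : b₀ < C.t) (h1 : b < C.t) (h2 : c < C.t) (h0' : b₀' < C.t) (h1' : b' < C.t) (h2' : c' < C.t)
    (e : (C.E K b₀ * a.M ev C.n (g₁ b c) * a.M ev C.n (g₂ b c)).trace =
      (C.E K b₀' * a.M ev C.n (g₁' b' c') * a.M ev C.n (g₂' b' c')).trace) : tab T b₀ b c = tab T' b₀' b' c' := by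
  rw [Nat.eq_of_beq_eq_true (allTo_iff.1 (allTo_iff.1 (allTo_iff.1 H b₀ h0) b h1) c h2),
    Nat.eq_of_beq_eq_true (allTo_iff.1 (allTo_iff.1 (allTo_iff.1 H' b₀' h0') b' h1') c' h2')]
  refine h.sp_inj (?_ : ev (a.trm _ _ _ _) = ev (a.trm _ _ _ _))
  rw [h.ev_trm hn, h.ev_trm hn]
  exact e

/-- a matrix commuting with the idempotents is a scalar matrix -/
theorem of_ok₄ (h : a.Sound ev) (hn : C.n ≤ 1000) (h1 : a.M ev C.n C.one = 1) (H : C.ok₄ a = true)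
    (U : Matrix (Fin C.n) (Fin C.n) K)
    (hU : ∀ k < 4, ∀ b < C.t, U * a.M ev C.n (C.ff k b) = a.M ev C.n (C.ff k b) * U) (Y : Matrix (Fin C.n) (Fin C.n) K) :
    U * Y = Y * U := by
  simp only [ok₄, Bool.and_eq_true, Nat.blt_eq, Nat.beq_eq] at H
  obtain ⟨⟨⟨⟨⟨a1, a2⟩, a3⟩, a4⟩, a5⟩, a6⟩ := H
  obtain ⟨b1, b2⟩ := chain_sound h hn _ _ _ a1
  rw [h1, Matrix.one_mul] at b2
  set r := a.M ev C.n (chainEnd C.w C.one C.ws) with hr
  set P := a.M ev C.n C.P with hP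
  have hn0 : 0 < C.n := by omega
  have c1 : U * r = r * U := by
    rw [b2]
    refine (Commute.list_prod_right _ _ fun Y hY => ?_).eq
    obtain ⟨l, hl, rfl⟩ := List.mem_map.1 hY
    exact hU _ (b1 l hl).1 _ (b1 l hl).2
  have c2 : ∀ i j, r i j = P i ⟨0, hn0⟩ * ev (a.ent C.n C.φ 0 j) := fun i j => by
    rw [hr, Sound.ent_eq a4, h.ev_sp (by norm_num) (fun _ => h.ent_lt _ _ _ _) fun _ => h.ent_lt _ _ _ _]
    simp [hP, M_apply]
  obtain ⟨c, hc⟩ : ∃ c, c = ∑ j : Fin C.n, ev (a.ent C.n C.φ 0 j) * U j ⟨C.j₀, a2⟩ := ⟨_, rfl⟩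
  have c3 : ∀ j (hj : j < C.n) i, (U * P) i ⟨j, hj⟩ = c * P i ⟨j, hj⟩ := by
    intro j
    induction j using Nat.strong_induction_on with
    | _ j ih =>
      intro hj i
      have d1 := allTo_iff.1 a6 j hj
      simp only [Bool.or_eq_true, Bool.and_eq_true, Nat.blt_eq, Nat.beq_eq] at d1
      rcases d1 with rfl | ⟨⟨⟨d1, d2⟩, d3⟩, d4⟩
      · have d2 := congrFun (congrFun c1 i) ⟨C.j₀, a2⟩
        simp only [Matrix.mul_apply, c2, a3, h.ev1, mul_one, mul_assoc, ← Finset.mul_sum] at d2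
        rw [Matrix.mul_apply, d2, hc, mul_comm]
      · set G := a.M ev C.n (C.ff (C.tree.getD j (0, 0, 0)).2.1 (C.tree.getD j (0, 0, 0)).2.2) with hG
        have d5 : ∀ i, P i ⟨j, hj⟩ = (G * P) i ⟨_, d1.trans hj⟩ := fun i => by
          rw [hG, hP, ← h.ev_dot hn, Nat.eq_of_beq_eq_true (allTo_iff.1 d4 i i.2)]
          rfl
        have d6 : (U * P) i ⟨j, hj⟩ = (U * (G * P)) i ⟨_, d1.trans hj⟩ := by
          rw [Matrix.mul_apply, Matrix.mul_apply]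
          exact Finset.sum_congr rfl fun m _ => by rw [d5]
        rw [d6, ← Matrix.mul_assoc, hU _ d2 _ d3, Matrix.mul_assoc, d5, Matrix.mul_apply, Matrix.mul_apply,
          Finset.mul_sum]
        exact Finset.sum_congr rfl fun m _ => by rw [ih _ d1, mul_left_comm]
  have c4 : U * P = c • P := by
    ext i j
    exact c3 j j.2 i
  have c5 := h.mul_eq hn a5
  rw [h1, ← hP] at c5
  have c6 : U = c • (1 : Matrix (Fin C.n) (Fin C.n) K) := by
    rw [← Matrix.mul_one U, ← c5, ← Matrix.mul_assoc, c4, Matrix.smul_mul]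
  rw [c6, Matrix.smul_mul, Matrix.mul_smul, Matrix.one_mul, Matrix.mul_one]

end Cert

end Cfsg.Agent.SB.Idem
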