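import Cfsg.Agent.SB.Idem.Chk
import Cfsg.Agent.SB.Defs
import Cfsg.Agent.DS.Cl.Basic

/-!
# S5765, classical rows: four conjugates of the stabiliser of a frame, from a certificate (helper96)
-/

set_option autoImplicit false

namespace Cfsg.Agent.SB.Idem

open Cfsg.Agent.DS.Cl Ar
open scoped commutatorElement

variable {A : Type} [Ring A] [StarRing A] {K : Type} [Field K]

omit [StarRing A] in
theorem trace_cj {n : ℕ} (π : A →+* Matrix (Fin n) (Fin n) K) (u : Aˣ) (x : A) : (π (cj A u x)).trace = (π x).trace := by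
  rw [cj_apply, map_mul, Matrix.trace_mul_comm, ← map_mul, ← mul_assoc, Units.inv_mul, one_mul]

omit [StarRing A] in
theorem cancel_unit {n : ℕ} (π : A →+* Matrix (Fin n) (Fin n) K) (u : Aˣ) {X Y : Matrix (Fin n) (Fin n) K}
    (h : X * π u = Y * π u) : X = Y := by
  have h1 := congrArg (· * π ((u⁻¹ : Aˣ) : A)) h
  simpa only [mul_assoc, ← map_mul, Units.mul_inv, map_one, mul_one] using h1

/-- **The engine.** -/
theorem four_of_cert [Finite A] (F : FR A) (hA : SS A) {a : Ar} {ev : ℕ → K} (h : a.Sound ev) (C : Cert) (sw : Bool)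
    (H₀ : C.ok₀ a = true) (H₁ : C.ok₁ a = true) (H₂ : C.ok₂ a = true) (H₃ : C.ok₃ a sw = true) (H₄ : C.ok₄ a = true)
    (π : A →+* Matrix (Fin C.n) (Fin C.n) K) (hπ : ∀ x, π x = 0 → π (star x) = 0 → x = 0)
    (htr : ∀ s ∈ SAut A, s ∈ Lin A ∨ (sw = true ∧ ∀ x, (π (s x)).trace = (π (star x)).trace))
    (hX : ∀ k < 3, ∃ u ∈ F.Iso, π u = a.M ev C.n (C.x k))
    (e : ℕ → A) (he : ∀ b < C.t, π (e b) = C.E K b) (hs : ∀ b < C.t, star (e b) = e b)
    (hi : ∀ b < C.t, ∀ c < C.t, e b = e c → b = c)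
    {S : Subgroup (RingAut A)} (hS : S ≤ SAut A) (hD : ∀ s ∈ S, ∀ b < C.t, ∃ c < C.t, s (e b) = e c) : Four F.S S := by
  obtain ⟨hn, t2, t4, h1, h0⟩ := Cert.of_ok₀ h H₀
  choose! u hu hu' using hX
  -- the conjugators
  have hz : ∀ k < 4, ∃ z ∈ (⁅F.Iso, F.Iso⁆ : Subgroup Aˣ), (k = 0 → z = 1) ∧
      ∀ b < C.t, π (cj A z (e b)) = a.M ev C.n (C.ff k b) := by
    intro k hk
    rcases k with _ | k
    · exact ⟨1, one_mem _, fun _ => rfl, fun b hb => by rw [map_one, ra_one, he b hb, h0 b hb]⟩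
    have hk3 : k < 3 := by omega
    have hk' : (k + 1) % 3 < 3 := Nat.mod_lt _ (by norm_num)
    have a1 := allTo_iff.1 H₁ k hk3
    simp only [Bool.and_eq_true] at a1
    obtain ⟨⟨a1, a2⟩, a3⟩ := a1
    have b1 := h.mul_eq hn a1
    have b2 := h.mul_eq hn a2
    have b3 := h.mul_eq hn a3
    rw [← b1, ← b2, ← hu' k hk3, ← hu' _ hk', ← map_mul, ← map_mul, ← Units.val_mul, ← Units.val_mul] at b3
    have b4 : π (⁅u k, u ((k + 1) % 3)⁆ : Aˣ) = a.M ev C.n (C.Z.getD k 0) := by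
      refine cancel_unit π (u ((k + 1) % 3) * u k) ?_
      rw [b3, ← map_mul, ← Units.val_mul, commutatorElement_def]
      congr 2
      group
    refine ⟨⁅u k, u ((k + 1) % 3)⁆, Subgroup.commutator_mem_commutator (hu k hk3) (hu _ hk'), fun h => by omega,
      fun b hb => cancel_unit π ⁅u k, u ((k + 1) % 3)⁆ ?_⟩
    rw [← map_mul, cj_mul_eq, map_mul, b4, he b hb, Cert.of_ok₂ h hn H₂ hk3 hb]
  choose! z hz hz0 hz' using hz
  have hzS : ∀ k < 4, cj A (z k) ∈ F.S := fun k hk => ⟨z k, hz k hk, rfl⟩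
  obtain ⟨g, hg⟩ : ∃ g : ℕ → ℕ → A, ∀ k b, g k b = cj A (z k) (e b) := ⟨_, fun _ _ => rfl⟩
  have hgπ : ∀ k < 4, ∀ b < C.t, π (g k b) = a.M ev C.n (C.ff k b) := fun k hk b hb => by rw [hg, hz' k hk b hb]
  have hgs : ∀ k < 4, ∀ b < C.t, star (g k b) = g k b := fun k hk b hb => by
    rw [hg, ← F.Aut_le_SAut (F.S_le_Aut (hzS k hk)), hs b hb]
  have hg0 : ∀ b < C.t, π (g 0 b) = C.E K b := fun b hb => by rw [hgπ 0 (by norm_num) b hb, h0 b hb]
  refine ⟨_, hzS 1 (by norm_num), _, hzS 2 (by norm_num), _, hzS 3 (by norm_num), fun s s0 s1 s2 s3 => ?_⟩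
  have hσ : ∀ k < 4, ∃ m ∈ perms C.t, m < 256 ∧ ∀ b < C.t, dig m b < C.t ∧ s (g k b) = g k (dig m b) := by
    intro k hk
    have a1 : (cj A (z k))⁻¹ * s * cj A (z k) ∈ S := by
      interval_cases k
      · rwa [hz0 0 (by norm_num) rfl, map_one, inv_one, one_mul, mul_one]
      exacts [s1, s2, s3]
    choose! σ hσ hσ' using hD _ a1
    have a2 : ∀ b < C.t, s (g k b) = g k (σ b) := fun b hb => by
      rw [hg, hg, ← hσ' b hb, ra_mul, ra_mul, ra_apply_inv]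
    obtain ⟨m, hm, hm', hm''⟩ := exists_perm t2 t4 σ hσ fun b hb c hc e' => by
      have a3 := a2 b hb
      rw [e', ← a2 c hc, hg, hg] at a3
      exact hi b hb c hc ((cj A (z k)).injective (s.injective a3))
    exact ⟨m, hm, hm', fun b hb => by rw [hm'' b hb]; exact ⟨hσ b hb, a2 b hb⟩⟩
  choose! m hm hm' hm'' using hσ
  simp only [Cert.ok₃, Bool.and_eq_true, Bool.or_eq_true, Bool.not_eq_true'] at H₃
  obtain ⟨⟨⟨⟨c1, c2⟩, c3⟩, c4⟩, c5⟩ := H₃
  have l0 : (0 : ℕ) < 4 := by norm_num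
  have l1 : (1 : ℕ) < 4 := by norm_num
  have l2 : (2 : ℕ) < 4 := by norm_num
  have l3 : (3 : ℕ) < 4 := by norm_num
  rcases htr s (hS s0) with hl | ⟨hsw, hl⟩
  · obtain ⟨v, rfl⟩ := hA.sn hl
    have key : ∀ k < 4, ∀ b₀ < C.t, ∀ b < C.t, ∀ c < C.t,
        (C.E K (dig (m 0) b₀) * a.M ev C.n (C.ff 1 (dig (m 1) b)) * a.M ev C.n (C.ff k (dig (m k) c))).trace =
          (C.E K b₀ * a.M ev C.n (C.ff 1 b) * a.M ev C.n (C.ff k c)).trace := by
      intro k hk b₀ hb₀ b hb c hc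
      rw [← hg0 _ (hm'' 0 l0 _ hb₀).1, ← hg0 _ hb₀, ← hgπ 1 l1 _ (hm'' 1 l1 _ hb).1, ← hgπ 1 l1 _ hb,
        ← hgπ k hk _ (hm'' k hk _ hc).1, ← hgπ k hk _ hc, ← (hm'' 0 l0 _ hb₀).2, ← (hm'' 1 l1 _ hb).2,
        ← (hm'' k hk _ hc).2, ← map_mul, ← map_mul, ← map_mul, ← map_mul, ← map_mul, ← map_mul, trace_cj]
    have d1 := search_sound c3 hm
      (fun b₀ hb₀ b hb c hc => Cert.of_tabOK h hn c1 c1 (hm'' 0 l0 _ hb₀).1 (hm'' 1 l1 _ hb).1 (hm'' 2 l2 _ hc).1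
        hb₀ hb hc (key 2 l2 _ hb₀ _ hb _ hc))
      (fun b₀ hb₀ b hb c hc => Cert.of_tabOK h hn c2 c2 (hm'' 0 l0 _ hb₀).1 (hm'' 1 l1 _ hb).1 (hm'' 3 l3 _ hc).1
        hb₀ hb hc (key 3 l3 _ hb₀ _ hb _ hc))
    simp only [Bool.or_eq_true, Nat.beq_eq, List.any_eq_true] at d1
    have d2 : ∀ k < 4, ∀ b < C.t, dig (code (m 0) (m 1) (m 2) (m 3)) (4 * k + b) = dig (m k) b := fun k hk b hb =>
      dig_code hm' hk (hb.trans_le t4)
    rcases d1 with d1 | ⟨x, hx, d1⟩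
    · rw [d1] at d2
      have d3 : ∀ k < 4, ∀ b < C.t, (v : A) * g k b = g k b * v := fun k hk b hb => by
        have d4 := (hm'' k hk b hb).2
        have d5 : ∀ k < 4, ∀ b < 4, dig 3840206052 (4 * k + b) = b := by decide
        rw [← d2 k hk b hb, d5 k hk b (hb.trans_le t4)] at d4
        rw [← cj_mul_eq, d4]
      have d4 := Cert.of_ok₄ h hn h1 H₄ (π v) fun k hk b hb => by
        rw [← hgπ k hk b hb, ← map_mul, ← map_mul, d3 k hk b hb]
      have d5 := Cert.of_ok₄ h hn h1 H₄ (π (star (v : A))) fun k hk b hb => by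
        rw [← hgπ k hk b hb, ← map_mul, ← map_mul, ← hgs k hk b hb, ← star_mul, ← star_mul, d3 k hk b hb]
      refine cj_eq_one_iff.2 (Subring.mem_center_iff.2 fun y => sub_eq_zero.1 (hπ _ ?_ ?_))
      · rw [map_sub, map_mul, map_mul, d4, sub_self]
      · rw [star_sub, star_mul, star_mul, map_sub, map_mul, map_mul, d5, sub_self]
    · exfalso
      have d3 := List.all_eq_true.1 c4 x hx
      simp only [Bool.and_eq_true, Bool.not_eq_true'] at d3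
      obtain ⟨⟨d3, d4⟩, d5⟩ := d3
      obtain ⟨d6, d7⟩ := chain_sound h hn _ _ _ d3
      obtain ⟨-, d8⟩ := chain_sound h hn _ _ _ d4
      rw [h1, Matrix.one_mul] at d7 d8
      have d9 : (x.2.1.map fun l => a.M ev C.n (C.ff l.1 l.2)).prod = π (x.2.1.map fun l => g l.1 l.2).prod := by
        rw [map_list_prod, List.map_map]
        exact congrArg List.prod (List.map_congr_left fun l hl => (hgπ _ (d6 l hl).1 _ (d6 l hl).2).symm)
      have d10 : (x.2.1.map fun l => a.M ev C.n (C.ff l.1 (dig x.1 (4 * l.1 + l.2)))).prod =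
          π (cj A v (x.2.1.map fun l => g l.1 l.2).prod) := by
        rw [map_list_prod, map_list_prod, List.map_map, List.map_map]
        refine congrArg List.prod (List.map_congr_left fun l hl => ?_)
        obtain ⟨d11, d12⟩ := d6 l hl
        rw [← d1, d2 _ d11 _ d12, ← hgπ _ d11 _ (hm'' _ d11 _ d12).1, ← (hm'' _ d11 _ d12).2]
        rfl
      have d11 : a.tr C.n (chainEnd x.2.1 C.one x.2.2.1) = a.tr C.n (chainEnd x.2.1 C.one x.2.2.2) := by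
        refine h.sp_inj (?_ : ev (a.tr _ _) = ev (a.tr _ _))
        rw [h.ev_tr hn, h.ev_tr hn, d7, d8, d9, d10, trace_cj]
      rw [d11, Nat.beq_refl] at d5
      exact absurd d5 (by decide)
  · exfalso
    rcases c5 with c5 | ⟨⟨c5, c6⟩, c7⟩
    · rw [hsw] at c5
      exact absurd c5 (by decide)
    have key : ∀ k < 4, ∀ b₀ < C.t, ∀ b < C.t, ∀ c < C.t,
        (C.E K (dig (m 0) b₀) * a.M ev C.n (C.ff 1 (dig (m 1) b)) * a.M ev C.n (C.ff k (dig (m k) c))).trace =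
          (C.E K b₀ * a.M ev C.n (C.ff k c) * a.M ev C.n (C.ff 1 b)).trace := by
      intro k hk b₀ hb₀ b hb c hc
      rw [← hg0 _ (hm'' 0 l0 _ hb₀).1, ← hg0 _ hb₀, ← hgπ 1 l1 _ (hm'' 1 l1 _ hb).1, ← hgπ 1 l1 _ hb,
        ← hgπ k hk _ (hm'' k hk _ hc).1, ← hgπ k hk _ hc, ← (hm'' 0 l0 _ hb₀).2, ← (hm'' 1 l1 _ hb).2,
        ← (hm'' k hk _ hc).2, ← map_mul, ← map_mul, ← map_mul, ← map_mul, hl, star_mul, star_mul, hgs 0 l0 _ hb₀,
        hgs 1 l1 _ hb, hgs k hk _ hc, ← mul_assoc, map_mul, Matrix.trace_mul_comm, map_mul, Matrix.mul_assoc]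
    exact absurd (search_sound c7 hm
      (fun b₀ hb₀ b hb c hc => Cert.of_tabOK h hn c1 c5 (hm'' 0 l0 _ hb₀).1 (hm'' 1 l1 _ hb).1 (hm'' 2 l2 _ hc).1
        hb₀ hb hc (key 2 l2 _ hb₀ _ hb _ hc))
      (fun b₀ hb₀ b hb c hc => Cert.of_tabOK h hn c2 c6 (hm'' 0 l0 _ hb₀).1 (hm'' 1 l1 _ hb).1 (hm'' 3 l3 _ hc).1
        hb₀ hb hc (key 3 l3 _ hb₀ _ hb _ hc))) (by decide)

end Cfsg.Agent.SB.Idem
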