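import Cfsg.Agent.SB.Idem.Bas

/-!
# S5765, classical rows: the engine for linear groups (helper96)
-/

set_option autoImplicit false

namespace Cfsg.Agent.SB.Idem

open Cfsg.Agent.DS.Cl Cfsg.Agent.DS.Cl.Fwd Module Matrix Ar

/-- all checks for linear groups -/
def Cert.okL (a : Ar) (C : Cert) (ps : ℕ) (d : ℕ → ℕ) (L : List ℕ) : Bool :=
  C.shOK ps d && allTo 3 fun k => a.mulOK C.n (C.x k) (L.getD k 0) C.one

variable {K : Type} [Field K] {m n : ℕ}

/-- the first component -/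
def fstL : LR (Fin m) K →+* Matrix (Fin m) (Fin m) K := RingHom.fst _ _

/-- the matrix of the first component -/
noncomputable def piL (c : Basis (Fin n) K (Fin m → K)) : LR (Fin m) K →+* Matrix (Fin n) (Fin n) K :=
  (((Matrix.toLinAlgEquiv' (R := K) (n := Fin m)).trans (LinearMap.toMatrixAlgEquiv c)).toRingEquiv :
    Matrix (Fin m) (Fin m) K →+* Matrix (Fin n) (Fin n) K).comp fstL

theorem piL_apply (c : Basis (Fin n) K (Fin m → K)) (x : LR (Fin m) K) :
    piL c x = LinearMap.toMatrix c c (Matrix.toLin' x.1) := rfl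

theorem piL_trace (c : Basis (Fin n) K (Fin m → K)) (x : LR (Fin m) K) : (piL c x).trace = x.1.trace := by
  rw [piL_apply, ← LinearMap.trace_eq_matrix_trace, Matrix.trace_toLin'_eq]

theorem eps_L : Eps (LR.mk 1 0 : LR (Fin m) K) where
  cen := Subring.mem_center_iff.2 fun g => by
    obtain ⟨c, d, rfl⟩ := LR.exists_mk g
    rw [LR.mk_mul, LR.mk_mul, mul_one, one_mul, mul_zero, zero_mul]
  idem := by rw [LR.mk_mul, mul_one, mul_zero]
  add := LR.half

theorem L_eq_max (F : FR (LR (Fin m) K)) : F.L = Lmax _ := F.L_eq eps_L.cen LR.half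

theorem gl_mem_Iso (F : FR (LR (Fin m) K)) (g : GL (Fin m) K) : LR.gl g ∈ F.Iso :=
  mem_Iso_max (L_eq_max F) ((LR.mem_gl _).1 ⟨g, rfl⟩)

theorem cen_L {x : LR (Fin m) K} (hx : x ∈ Subring.center (LR (Fin m) K)) :
    ∃ y z : K, x = LR.mk (Matrix.scalar _ y) (Matrix.scalar _ z) := by
  obtain ⟨a, b, rfl⟩ := LR.exists_mk x
  obtain ⟨y, rfl⟩ : a ∈ Set.range (Matrix.scalar (Fin m)) := Matrix.mem_range_scalar_iff_commute_single'.2 fun i j =>
    congrArg Prod.fst (Subring.mem_center_iff.1 hx (LR.mk (Matrix.single i j 1) 0))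
  obtain ⟨z, rfl⟩ : b ∈ Set.range (Matrix.scalar (Fin m)) := Matrix.mem_range_scalar_iff_commute_single'.2 fun i j =>
    congrArg Prod.snd (Subring.mem_center_iff.1 hx (LR.mk 0 (Matrix.single i j 1)))
  exact ⟨y, z, rfl⟩

theorem four_l [Finite K] {p : ℕ} (hp : p.Prime) (h4 : p ≤ 4) (hK : Nat.card K = p) {F : FR (LR (Fin m) K)}
    (hA : SS (LR (Fin m) K)) (C : Cert) (H₀ : C.ok₀ (arP p) = true) (H₁ : C.ok₁ (arP p) = true)
    (H₂ : C.ok₂ (arP p) = true) (H₃ : C.ok₃ (arP p) true = true) (H₄ : C.ok₄ (arP p) = true) {ps : ℕ} {d : ℕ → ℕ}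
    {L : List ℕ} (H₅ : C.okL (arP p) ps d L = true)
    {D : Finset (LR (Fin m) K)} (hD : Fr D) {e : ℕ → LR (Fin m) K} (he : En D C.t e)
    (hr : ∀ b < C.t, Cl.rkL (e b) = d b) {S : Subgroup (RingAut (LR (Fin m) K))} (hS : S ≤ SAut _) (hinv : Inv S D) :
    Four F.S S := by
  obtain ⟨_, hk⟩ := prime_field hp hK
  have ha := arP_sound (K := K) hp.pos h4
  simp only [Cert.okL, Bool.and_eq_true] at H₅
  obtain ⟨H₅, H₆⟩ := H₅
  let φ : LR (Fin m) K →+* End K (Fin m → K) :=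
    ((Matrix.toLinAlgEquiv' (R := K) (n := Fin m)).toRingEquiv : Matrix (Fin m) (Fin m) K →+* _).comp fstL
  choose! v hv using fun b (hb : b < C.t) => exists_BB (E := φ (e b)) (d := d b)
    (by rw [← map_mul, hD.idem _ (he.mem b hb)]) (hr b hb)
  obtain ⟨c, -, hc⟩ := exists_basis H₅ (fun b => φ (e b))
    (fun b hb b' hb' hne => by rw [← map_mul, he.orth hD hb hb' hne, map_zero])
    (by rw [← map_sum, he.sum hD, map_one]) v hv
  obtain ⟨hn, -, -, h1, -⟩ := Cert.of_ok₀ ha H₀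
  have hinj : ∀ x : LR (Fin m) K, piL c x = 0 → x.1 = 0 := fun x hx => by
    rwa [piL_apply, map_eq_zero_iff _ (LinearMap.toMatrix c c).injective,
      map_eq_zero_iff _ (Matrix.toLin' (R := K)).injective] at hx
  refine four_of_cert F hA ha C true H₀ H₁ H₂ H₃ H₄ (piL c)
    (fun x h2 h3 => Prod.ext (hinj x h2) (Matrix.transpose_eq_zero.1 (hinj _ h3)))
    (htr_of hA (piL c) LR.swapAut (LR.mk 1 0) (fun s hs x hx => ?_) (fun s hs => hA.map_eps eps_L hs) ?_ fun x => ?_)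
    (fun k hk' => ?_) e hc (fun b hb => hD.symm _ (he.mem b hb)) he.inj hS (he.inv hinv)
  · obtain ⟨y, z, rfl⟩ := cen_L hx
    obtain ⟨y, rfl⟩ := hk y
    obtain ⟨z, rfl⟩ := hk z
    have h2 : (LR.mk (Matrix.scalar _ (y : K)) (Matrix.scalar _ (z : K)) : LR (Fin m) K) =
        (y : LR (Fin m) K) * LR.mk 1 0 + (z : LR (Fin m) K) * (1 - LR.mk 1 0) := by
      rw [map_natCast, map_natCast]
      change _ = LR.mk (y : Matrix (Fin m) (Fin m) K) y * LR.mk 1 0 +
        LR.mk (z : Matrix (Fin m) (Fin m) K) z * (LR.mk 1 1 - LR.mk 1 0)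
      simp [LR.mk_mul, LR.mk_add, LR.mk_sub]
    rw [h2, map_add, map_mul, map_mul, map_sub, map_one, map_natCast, map_natCast, hs]
  · rw [LR.star_mk, Matrix.transpose_zero, Matrix.transpose_one]
    rfl
  · rw [piL_trace, piL_trace]
    exact (Matrix.trace_transpose _).symm
  · have h2 := ha.mul_eq hn (allTo_iff.1 H₆ k hk')
    rw [h1] at h2
    let ψ := (Matrix.toLinAlgEquiv' (R := K) (n := Fin m)).trans (LinearMap.toMatrixAlgEquiv c)
    have h3 := congrArg ψ.symm h2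
    rw [map_mul, map_one] at h3
    exact ⟨_, gl_mem_Iso F ⟨_, _, h3, mul_eq_one_comm.1 h3⟩, ψ.apply_symm_apply _⟩

end Cfsg.Agent.SB.Idem
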